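import Groth.Agent.GenFlat.Descent
import Mathlib.AlgebraicGeometry.Sites.Fpqc
import Mathlib.AlgebraicGeometry.Morphisms.Flat
import Mathlib.AlgebraicGeometry.Morphisms.FinitePresentation
import Mathlib.AlgebraicGeometry.Limits
import Mathlib.RingTheory.RingHom.FaithfullyFlat

/-!
# fppf descent on the source
-/

set_option autoImplicit false
set_option backward.isDefEq.respectTransparency false

universe u

open CategoryTheory CategoryTheory.Limits AlgebraicGeometry MorphismProperty

namespace Groth.Agent.GenFlat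

/-- Finitely many affine opens of the source covering a quasi-compact target. -/
theorem exists_affine_fppf_surjective {X Y : Scheme.{u}} (e : X ⟶ Y) [Flat e] [LocallyOfFinitePresentation e]
    [Surjective e] [CompactSpace Y] :
    ∃ (W : Scheme.{u}) (p : W ⟶ X), IsAffine W ∧ Flat p ∧ LocallyOfFinitePresentation p ∧
      (∀ (P : MorphismProperty Scheme.{u}) [IsZariskiLocalAtSource P] {Z : Scheme.{u}} (g : X ⟶ Z),
        P g → P (p ≫ g)) ∧ Surjective (p ≫ e) := by
  obtain ⟨t, ht⟩ := isCompact_univ.elim_finite_subcover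
    (fun i : X.affineOpens => e '' (i.1 : Set X)) (fun i => e.isOpenMap _ i.1.2) (fun y _ => by
      obtain ⟨x, rfl⟩ := e.surjective y
      obtain ⟨W, hW, hx, -⟩ := exists_isAffineOpen_mem_and_subset (show x ∈ (⊤ : X.Opens) from trivial)
      exact Set.mem_iUnion.2 ⟨⟨W, hW⟩, x, hx, rfl⟩)
  let g : t → Scheme.{u} := fun i => i.1.1
  have : ∀ i, IsAffine (g i) := fun i => i.1.2
  let p : (∐ g) ⟶ X := Sigma.desc fun i => i.1.1.ι
  refine ⟨∐ g, p, inferInstance, ?_, ?_, ?_, ⟨fun y => ?_⟩⟩
  · refine IsZariskiLocalAtSource.of_openCover (P := @Flat) (sigmaOpenCover g) fun i => ?_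
    change Flat (Sigma.ι g i ≫ p)
    rw [Sigma.ι_desc]; infer_instance
  · refine IsZariskiLocalAtSource.of_openCover (P := @LocallyOfFinitePresentation) (sigmaOpenCover g) fun i => ?_
    change LocallyOfFinitePresentation (Sigma.ι g i ≫ p)
    rw [Sigma.ι_desc]; infer_instance
  · intro P _ Z g' hg'
    refine IsZariskiLocalAtSource.of_openCover (P := P) (sigmaOpenCover g) fun i => ?_
    change P (Sigma.ι g i ≫ p ≫ g')
    rw [Sigma.ι_desc_assoc]
    exact IsZariskiLocalAtSource.comp hg' _
  · obtain ⟨i, hi, x, hx, rfl⟩ : ∃ i ∈ t, ∃ x ∈ (i.1 : Set X), e x = y := by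
      simpa [Set.mem_iUnion] using ht (Set.mem_univ y)
    refine ⟨Sigma.ι g ⟨i, hi⟩ ⟨x, hx⟩, ?_⟩
    rw [← Scheme.Hom.comp_apply, Sigma.ι_desc_assoc]
    rfl

/-- Descent along fppf surjections on the source, from the statement about rings. -/
theorem descend_fppf_of_ring {P : MorphismProperty Scheme.{u}}
    {Q : ∀ {R S : Type u} [CommRing R] [CommRing S], (R →+* S) → Prop} [HasRingHomProperty P Q]
    (hring : ∀ (A B C : Type u) [CommRing A] [CommRing B] [CommRing C] (φ : A →+* B) (ψ : B →+* C),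
      ψ.FinitePresentation → ψ.FaithfullyFlat → Q (ψ.comp φ) → Q φ)
    {X Y Z : Scheme.{u}} (e : X ⟶ Y) (f : Y ⟶ Z) (he : Flat e) (he' : LocallyOfFinitePresentation e)
    (hs : Surjective e) (h : P (e ≫ f)) : P f := by
  wlog hZ : ∃ A, Z = Spec A generalizing X Y Z
  · rw [IsZariskiLocalAtTarget.iff_of_openCover (P := P) Z.affineCover]
    intro i
    dsimp only [Scheme.Cover.pullbackHom]
    let j := Z.affineCover.f i
    refine this (pullback.map (e ≫ f) j f j e (𝟙 _) (𝟙 _) (by simp) (by simp)) (pullback.snd f j)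
      ?_ ?_ ?_ ?_ ⟨_, rfl⟩
    · exact MorphismProperty.pullbackMap he (inferInstanceAs (Flat (𝟙 _))) rfl (by simp)
    · exact MorphismProperty.pullbackMap he' (inferInstanceAs (LocallyOfFinitePresentation (𝟙 _))) rfl (by simp)
    · exact MorphismProperty.pullbackMap hs (inferInstanceAs (Surjective (𝟙 _))) rfl (by simp)
    · rw [pullback.lift_snd, Category.comp_id]
      exact IsZariskiLocalAtTarget.of_isPullback (P := P) (IsPullback.of_hasPullback (e ≫ f) j) h
  obtain ⟨A, rfl⟩ := hZ
  wlog hY : ∃ B, Y = Spec B generalizing X Y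
  · rw [IsZariskiLocalAtSource.iff_of_openCover (P := P) Y.affineCover]
    intro i
    let j := Y.affineCover.f i
    refine this (pullback.snd e j) (MorphismProperty.pullback_snd _ _ he) (MorphismProperty.pullback_snd _ _ he')
      (MorphismProperty.pullback_snd _ _ hs) (j ≫ f) ?_ ⟨_, rfl⟩
    rw [← Category.assoc, ← pullback.condition, Category.assoc]
    exact IsZariskiLocalAtSource.comp h _
  obtain ⟨B, rfl⟩ := hY
  obtain ⟨φ, rfl⟩ := Spec.map_surjective f
  obtain ⟨W, p, hW, hp, hp₂, hp', hps⟩ := exists_affine_fppf_surjective e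
  obtain ⟨ψ, hψ⟩ := Spec.map_surjective (W.isoSpec.inv ≫ p ≫ e)
  have h₁ : LocallyOfFinitePresentation (Spec.map ψ) := by rw [hψ]; infer_instance
  have h₁' : Flat (Spec.map ψ) := by rw [hψ]; infer_instance
  have h₂ : Surjective (Spec.map ψ) := by rw [hψ]; infer_instance
  have h₃ : P (Spec.map ψ ≫ Spec.map φ) := by
    rw [hψ, Category.assoc, Category.assoc, P.cancel_left_of_respectsIso]
    exact hp' P _ h
  rw [← Spec.map_comp, HasRingHomProperty.Spec_iff (P := P)] at h₃
  rw [HasRingHomProperty.Spec_iff (P := P)]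
  have hfl : ψ.hom.Flat := HasRingHomProperty.Spec_iff.1 h₁'
  exact hring A B _ φ.hom ψ.hom (HasRingHomProperty.Spec_iff.1 h₁)
    (RingHom.FaithfullyFlat.iff_flat_and_comap_surjective.2 ⟨hfl, h₂.surj⟩) h₃

theorem locallyOfFiniteType_of_fppf_comp {X Y Z : Scheme.{u}} (f : X ⟶ Y) (g : Y ⟶ Z) [hs : Surjective f]
    [hf : Flat f] [hp : LocallyOfFinitePresentation f] [h : LocallyOfFiniteType (f ≫ g)] : LocallyOfFiniteType g :=
  descend_fppf_of_ring (P := @LocallyOfFiniteType) (fun A B C _ _ _ φ ψ hψ hff h => by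
    algebraize [φ, ψ, ψ.comp φ]
    exact finiteType_of_faithfullyFlat A B C) f g hf hp hs h

theorem locallyOfFinitePresentation_of_fppf_comp {X Y Z : Scheme.{u}} (f : X ⟶ Y) (g : Y ⟶ Z) [hs : Surjective f]
    [hf : Flat f] [hp : LocallyOfFinitePresentation f] [h : LocallyOfFinitePresentation (f ≫ g)] :
    LocallyOfFinitePresentation g :=
  descend_fppf_of_ring (P := @LocallyOfFinitePresentation) (fun A B C _ _ _ φ ψ hψ hff h => by
    algebraize [φ, ψ, ψ.comp φ]
    exact finitePresentation_of_faithfullyFlat A B C) f g hf hp hs h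

/-- Zariski locality and descent along fppf surjections give fppf locality on the source. -/
theorem isLocalAtSource_fppf {P : MorphismProperty Scheme.{u}} [IsZariskiLocalAtSource P]
    (hpre : ∀ {A B C : Scheme.{u}} (e : A ⟶ B) (f : B ⟶ C), Flat e → LocallyOfFinitePresentation e →
      P f → P (e ≫ f))
    (hd : ∀ {A B C : Scheme.{u}} (e : A ⟶ B) (f : B ⟶ C), Flat e → LocallyOfFinitePresentation e →
      Surjective e → P (e ≫ f) → P f) : P.IsLocalAtSource Scheme.fppfPrecoverage := by
  refine .mk_of_iff_of_zeroHypercover fun {X Y} f 𝒰 => ?_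
  obtain ⟨h1, h2⟩ := (Scheme.ofArrows_mem_precoverage_iff _).mp 𝒰.mem₀
  refine ⟨fun hf i => hpre _ _ (h2 i).1 (h2 i).2 hf, fun h => ?_⟩
  choose i hi using h1
  let g : X → Scheme.{u} := fun x ↦ 𝒰.X (i x)
  let p : (∐ g) ⟶ X := Sigma.desc fun x ↦ 𝒰.f (i x)
  have hp : Flat p := IsZariskiLocalAtSource.of_openCover (P := @Flat) (sigmaOpenCover g) fun x ↦ by
    change Flat (Sigma.ι g x ≫ p)
    rw [Sigma.ι_desc]
    exact (h2 (i x)).1
  have hp' : LocallyOfFinitePresentation p :=
    IsZariskiLocalAtSource.of_openCover (P := @LocallyOfFinitePresentation) (sigmaOpenCover g) fun x ↦ by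
      change LocallyOfFinitePresentation (Sigma.ι g x ≫ p)
      rw [Sigma.ι_desc]
      exact (h2 (i x)).2
  have hs : Surjective p := ⟨fun x ↦ by
    obtain ⟨y, hy⟩ := hi x
    refine ⟨Sigma.ι g x y, ?_⟩
    rw [← Scheme.Hom.comp_apply, Sigma.ι_desc]
    exact hy⟩
  refine hd p f hp hp' hs (IsZariskiLocalAtSource.of_openCover (P := P) (sigmaOpenCover g) fun x ↦ ?_)
  change P (Sigma.ι g x ≫ p ≫ f)
  rw [Sigma.ι_desc_assoc]
  exact h (i x)

theorem isLocalAtSource_lft_fppf :
    MorphismProperty.IsLocalAtSource (@LocallyOfFiniteType : MorphismProperty Scheme.{u}) Scheme.fppfPrecoverage :=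
  isLocalAtSource_fppf (fun e f he he' hf => have : LocallyOfFiniteType f := hf; inferInstance)
    (fun e f he he' hs h => have : LocallyOfFiniteType (e ≫ f) := h; locallyOfFiniteType_of_fppf_comp e f)

theorem isLocalAtSource_lfp_fppf :
    MorphismProperty.IsLocalAtSource (@LocallyOfFinitePresentation : MorphismProperty Scheme.{u})
      Scheme.fppfPrecoverage :=
  isLocalAtSource_fppf (fun e f he he' hf => have : LocallyOfFinitePresentation f := hf; inferInstance)
    (fun e f he he' hs h => have : LocallyOfFinitePresentation (e ≫ f) := h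
      locallyOfFinitePresentation_of_fppf_comp e f)

end Groth.Agent.GenFlat
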