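import Groth.Agent.GenFlat.Limit
import Groth.Agent.AlgSpc.EtSourceRing

/-!
# Finite type and finite presentation descend along faithfully flat finitely presented maps of the source
-/

set_option autoImplicit false

universe u

open TensorProduct

namespace Groth.Agent.GenFlat

open Groth.Agent.AlgSpc

theorem exists_baseChange_model {S₀ S₁ S B C M : Type u} [CommRing S₀] [CommRing S₁] [CommRing S] [CommRing B]
    [CommRing C] [CommRing M] [Algebra S₀ S₁] [Algebra S₀ B] [Algebra S₁ B] [IsScalarTower S₀ S₁ B] [Algebra S₁ S]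
    [Algebra S B] [IsScalarTower S₁ S B] [Algebra B C] [Algebra S₀ M] [Module.Flat S₁ (S₁ ⊗[S₀] M)]
    [Algebra.FinitePresentation S₀ M] (e : B ⊗[S₀] M ≃ₐ[B] C) :
    ∃ (C₀ : Type u) (_ : CommRing C₀) (_ : Algebra S C₀),
      Module.Flat S C₀ ∧ Algebra.FinitePresentation S C₀ ∧ Nonempty (C ≃ₐ[B] B ⊗[S] C₀) :=
  ⟨S ⊗[S₁] (S₁ ⊗[S₀] M), inferInstance, inferInstance, inferInstance, inferInstance,
    ⟨e.symm.trans ((Algebra.TensorProduct.cancelBaseChange S₀ S₁ B B M).symm.trans
      (Algebra.TensorProduct.cancelBaseChange S₁ S B B (S₁ ⊗[S₀] M)).symm)⟩⟩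

set_option synthInstance.maxHeartbeats 400000 in
set_option maxHeartbeats 1000000 in
/-- A flat finitely presented algebra comes from a flat one over a finitely generated subalgebra. -/
theorem exists_flat_model {K : Type*} [CommRing K] {B C : Type u} [CommRing B] [CommRing C] [Algebra K B]
    [Algebra B C] [Module.Flat B C] [Algebra.FinitePresentation B C] :
    ∃ (S : Subalgebra K B) (C₀ : Type u) (_ : CommRing C₀) (_ : Algebra S C₀),
      S.FG ∧ Module.Flat S C₀ ∧ Algebra.FinitePresentation S C₀ ∧ Nonempty (C ≃ₐ[B] B ⊗[S] C₀) := by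
  classical
  let P := Algebra.Presentation.ofFinitePresentation B C
  let S₀ : Subalgebra ℤ B := Algebra.adjoin ℤ P.coeffs
  have : P.HasCoeffs S₀ := ⟨by simp [S₀, Subalgebra.algebraMap_eq]⟩
  let M₀ := P.ModelOfHasCoeffs S₀
  let e₀ : B ⊗[S₀] M₀ ≃ₐ[B] C := P.tensorModelOfHasCoeffsEquiv S₀
  have : Module.Flat B (B ⊗[S₀] M₀) := Module.Flat.of_linearEquiv e₀.toLinearEquiv
  have : Algebra.FiniteType ℤ S₀ := Algebra.FiniteType.adjoin_of_finite P.finite_coeffs
  have : IsNoetherianRing S₀ := Algebra.FiniteType.isNoetherianRing ℤ S₀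
  obtain ⟨s, hs⟩ := exists_flat_subalgebra S₀ M₀ B
  let S₁ : Subalgebra S₀ B := Algebra.adjoin S₀ (s : Set B)
  have hfg : Algebra.FiniteType S₀ S₁ := Algebra.FiniteType.adjoin_of_finite s.finite_toSet
  have : Module.Flat S₁ (S₁ ⊗[S₀] M₀) := hs S₁ Algebra.subset_adjoin hfg
  let S : Subalgebra K B := Algebra.adjoin K (P.coeffs ∪ (s : Set B))
  have hle : ∀ x : S₁, (x : B) ∈ S := by
    rintro ⟨x, hx⟩
    induction hx using Algebra.adjoin_induction with
    | mem y hy => exact Algebra.subset_adjoin (Or.inr hy)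
    | algebraMap r =>
      obtain ⟨r, hr⟩ := r
      induction hr using Algebra.adjoin_induction with
      | mem y hy => exact Algebra.subset_adjoin (Or.inl hy)
      | algebraMap n => exact intCast_mem S n
      | add a b _ _ ha hb => exact add_mem ha hb
      | mul a b _ _ ha hb => exact mul_mem ha hb
    | add a b _ _ ha hb => exact add_mem ha hb
    | mul a b _ _ ha hb => exact mul_mem ha hb
  let inc : S₁ →+* S := S₁.val.toRingHom.codRestrict S hle
  let : Algebra S₁ S := inc.toAlgebra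
  have : IsScalarTower S₁ S B := IsScalarTower.of_algebraMap_eq fun _ => rfl
  obtain ⟨C₀, i1, i2, h1, h2, h3⟩ := exists_baseChange_model (S₁ := S₁) (S := S) e₀
  exact ⟨S, C₀, i1, i2, Subalgebra.fg_def.2 ⟨_, P.finite_coeffs.union s.finite_toSet, rfl⟩, h1, h2, h3⟩

theorem finiteType_of_faithfullyFlat (A B C : Type u) [CommRing A] [CommRing B] [CommRing C]
    [Algebra A B] [Algebra A C] [Algebra B C] [IsScalarTower A B C] [Algebra.FinitePresentation B C]
    [Module.FaithfullyFlat B C] [Algebra.FiniteType A C] : Algebra.FiniteType A B := by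
  classical
  obtain ⟨S, C₀, _, _, hS, _, _, ⟨e⟩⟩ := exists_flat_model (K := A) (B := B) (C := C)
  obtain ⟨s, hs⟩ := (inferInstance : Algebra.FiniteType A C).out
  choose m hm using fun c => TensorProduct.exists_finset (e c)
  let T : Set B := ⋃ c ∈ s, (Prod.fst '' (m c : Set (B × C₀)))
  have hT : T.Finite := s.finite_toSet.biUnion fun c _ => ((m c).finite_toSet.image _)
  let B₁ : Subalgebra A B := S ⊔ Algebra.adjoin A T
  let σ : C₀ →ₐ[S] B ⊗[S] C₀ := Algebra.TensorProduct.includeRight
  let k : C₀ →+* C := e.symm.toRingEquiv.toRingHom.comp σ.toRingHom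
  have hk : k.comp (algebraMap S C₀) = (algebraMap B C).comp (algebraMap S B) := by
    ext x
    change e.symm (σ (algebraMap S C₀ x)) = _
    rw [σ.commutes, IsScalarTower.algebraMap_apply S B (B ⊗[S] C₀)]
    exact e.symm.commutes _
  obtain ⟨g, hg, hrad⟩ := exists_image_generators (B := B) (C := C) k hk
  obtain ⟨g', hg', y₀, hy₀⟩ := (Submodule.mem_span_image_iff_exists_fun (R := B)).1
    (show (1 : B) ∈ Ideal.span _ from hg.symm ▸ Submodule.mem_top)
  obtain ⟨y, hy⟩ : ∃ y : _ → B, ∑ x ∈ g', y x * algebraMap _ B x = 1 := by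
    refine ⟨fun x => if h : x ∈ g' then y₀ ⟨x, h⟩ else 0, ?_⟩
    rw [← Finset.sum_coe_sort, ← hy₀]
    exact Finset.sum_congr rfl fun x _ => by simp [x.2, smul_eq_mul]
  let B₂ : Subalgebra A B := B₁ ⊔ Algebra.adjoin A (y '' (g' : Set S))
  -- every element of `C` comes from `B₁`
  let N : Submodule S B :=
    { carrier := B₁
      add_mem' := B₁.add_mem
      zero_mem' := B₁.zero_mem
      smul_mem' := fun r x hx => B₁.mul_mem ((le_sup_left : S ≤ B₁) r.2) hx }
  have key : ∀ b : B, (Submodule.Quotient.mk b : B ⧸ N) ⊗ₜ[S] (1 : C₀) = 0 := by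
    intro b
    suffices ∀ c : C, LinearMap.rTensor C₀ N.mkQ (e c) = 0 by
      simpa [Algebra.TensorProduct.algebraMap_apply] using this (algebraMap B C b)
    intro c
    have : ∃ z : N ⊗[S] C₀, LinearMap.rTensor C₀ N.subtype z = e c := by
      have hc : c ∈ Algebra.adjoin A (s : Set C) := hs ▸ trivial
      induction hc using Algebra.adjoin_induction with
      | mem x hx =>
        rw [hm x]
        refine ⟨∑ i ∈ (m x).attach, (⟨i.1.1, ?_⟩ : N) ⊗ₜ i.1.2, ?_⟩
        · exact (le_sup_right : Algebra.adjoin A T ≤ B₁) (Algebra.subset_adjoin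
            (Set.mem_biUnion hx ⟨i.1, i.2, rfl⟩))
        · simp only [map_sum, LinearMap.rTensor_tmul, Submodule.subtype_apply]
          exact Finset.sum_attach (m x) fun i => i.1 ⊗ₜ[S] i.2
      | algebraMap r =>
        refine ⟨(⟨algebraMap A B r, B₁.algebraMap_mem r⟩ : N) ⊗ₜ 1, ?_⟩
        rw [IsScalarTower.algebraMap_apply A B C, e.commutes, Algebra.TensorProduct.algebraMap_apply]
        simp
      | add x z _ _ hx hz =>
        obtain ⟨a, ha⟩ := hx
        obtain ⟨b, hb⟩ := hz
        exact ⟨a + b, by rw [map_add, map_add, ha, hb]⟩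
      | mul x z _ _ hx hz =>
        obtain ⟨a, ha⟩ := hx
        obtain ⟨b, hb⟩ := hz
        rw [map_mul, ← ha, ← hb]
        clear ha hb
        induction a using TensorProduct.induction_on with
        | zero => exact ⟨0, by simp⟩
        | add a₁ a₂ h₁ h₂ =>
          obtain ⟨z₁, hz₁⟩ := h₁
          obtain ⟨z₂, hz₂⟩ := h₂
          exact ⟨z₁ + z₂, by rw [map_add, map_add, add_mul, hz₁, hz₂]⟩
        | tmul a₁ c₁ =>
          induction b using TensorProduct.induction_on with
          | zero => exact ⟨0, by simp⟩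
          | add b₁ b₂ h₁ h₂ =>
            obtain ⟨z₁, hz₁⟩ := h₁
            obtain ⟨z₂, hz₂⟩ := h₂
            exact ⟨z₁ + z₂, by rw [map_add, map_add, mul_add, hz₁, hz₂]⟩
          | tmul b₁ c₂ => exact ⟨(⟨a₁.1 * b₁.1, B₁.mul_mem a₁.2 b₁.2⟩ : N) ⊗ₜ (c₁ * c₂), by simp⟩
    obtain ⟨z, hz⟩ := this
    rw [← hz, ← LinearMap.rTensor_comp_apply, show N.mkQ ∘ₗ N.subtype = 0 from
      LinearMap.ext fun x => (Submodule.Quotient.mk_eq_zero _).2 x.2, LinearMap.rTensor_zero]
    rfl
  have hB : B₂ = ⊤ := by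
    refine eq_top_iff.2 fun b _ => ?_
    have hI := annihilator_map_eq_top (C := C₀) (Submodule.Quotient.mk b : B ⧸ N) (key b)
    let J : Ideal B₂ :=
      { carrier := {r | r.1 * b ∈ B₂}
        add_mem' := fun {r t} hr ht => by simpa [add_mul] using B₂.add_mem hr ht
        zero_mem' := by simp
        smul_mem' := fun r t ht => by simpa [mul_assoc] using B₂.mul_mem r.2 ht }
    have hgJ : ∀ x ∈ g', (⟨x.1, (le_sup_left : B₁ ≤ B₂) ((le_sup_left : S ≤ B₁) x.2)⟩ : B₂) ∈ J.radical := by
      intro x hx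
      obtain ⟨N', hN'⟩ := hrad _ hI (hg' hx)
      rw [LinearMap.mem_ker, LinearMap.toSpanSingleton_apply, ← Submodule.Quotient.mk_smul,
        Submodule.Quotient.mk_eq_zero] at hN'
      exact ⟨N', (le_sup_left : B₁ ≤ B₂) hN'⟩
    have h1 : (1 : B₂) ∈ J.radical := by
      have e1 : (1 : B₂) = ∑ x ∈ g'.attach,
          (⟨y x.1, (le_sup_right : _ ≤ B₂) (Algebra.subset_adjoin ⟨x.1, x.2, rfl⟩)⟩ : B₂) *
            ⟨x.1.1, (le_sup_left : B₁ ≤ B₂) ((le_sup_left : S ≤ B₁) x.1.2)⟩ := by
        apply Subtype.ext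
        push_cast
        rw [Finset.sum_attach g' fun x : S => y x * (x : B), ← hy]
        rfl
      rw [e1]
      exact Submodule.sum_mem _ fun x _ => Ideal.mul_mem_left _ _ (hgJ x.1 x.2)
    obtain ⟨n, hn⟩ := h1
    simpa [J] using hn
  refine ⟨?_⟩
  rw [← hB]
  exact (hS.sup (Subalgebra.fg_def.2 ⟨T, hT, rfl⟩)).sup
    (Subalgebra.fg_def.2 ⟨_, g'.finite_toSet.image y, rfl⟩)

theorem finitePresentation_of_faithfullyFlat (A B C : Type u) [CommRing A] [CommRing B] [CommRing C]
    [Algebra A B] [Algebra A C] [Algebra B C] [IsScalarTower A B C] [Algebra.FinitePresentation B C]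
    [Module.FaithfullyFlat B C] [Algebra.FinitePresentation A C] : Algebra.FinitePresentation A B := by
  have : Algebra.FiniteType A B := finiteType_of_faithfullyFlat A B C
  obtain ⟨S, C₀, _, _, hS, _, _, ⟨e⟩⟩ := exists_flat_model (K := ℤ) (B := B) (C := C)
  have : Algebra.FiniteType ℤ S := (Subalgebra.fg_iff_finiteType S).1 hS
  have : Algebra.FinitePresentation ℤ S := Algebra.FinitePresentation.of_finiteType.1 this
  obtain ⟨B', _, _, _, π, hπ, hπS, hFP⟩ := exists_fp_cover A S
  algebraize [π.toRingHom]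
  have : IsScalarTower S B' B := IsScalarTower.of_algebraMap_eq fun x => (hπS x).symm
  have : IsScalarTower A B' B := IsScalarTower.of_algebraMap_eq fun x => (π.commutes x).symm
  let : Algebra B' C := ((algebraMap B C).comp (algebraMap B' B)).toAlgebra
  have : IsScalarTower B' B C := IsScalarTower.of_algebraMap_eq fun _ => rfl
  have : IsScalarTower A B' C := IsScalarTower.of_algebraMap_eq fun x => by
    rw [IsScalarTower.algebraMap_apply A B C, IsScalarTower.algebraMap_apply A B' B]
    exact (IsScalarTower.algebraMap_apply B' B C _).symm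
  let q : B' ⊗[S] C₀ →ₐ[B'] B ⊗[S] C₀ :=
    Algebra.TensorProduct.map (Algebra.ofId B' B) (AlgHom.id S C₀)
  let σ : B' ⊗[S] C₀ →ₐ[B'] C := (e.symm.toAlgHom.restrictScalars B').comp q
  refine finitePresentation_aux (C' := B' ⊗[S] C₀) hπ σ
    (e.symm.surjective.comp (show Function.Surjective (TensorProduct.map (IsScalarTower.toAlgHom S B' B).toLinearMap
      (LinearMap.id (R := S) (M := C₀))) from TensorProduct.map_surjective hπ Function.surjective_id)) ?_
  exact (RingHom.ker_comp_of_injective q.toRingHom (f := e.symm.toRingEquiv.toRingHom) e.symm.injective).trans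
    (Algebra.TensorProduct.rTensor_ker (C := C₀) (IsScalarTower.toAlgHom S B' B) hπ)

end Groth.Agent.GenFlat
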