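import Groth.Agent.GenFlat.TFlat
import Groth.Agent.FlatCrit.Basic
import Mathlib.Algebra.Colimit.TensorProduct
import Mathlib.RingTheory.Localization.BaseChange
import Mathlib.LinearAlgebra.TensorProduct.Quotient
import Mathlib.RingTheory.Flat.Localization
import Mathlib.RingTheory.Adjoin.FG
import Mathlib.RingTheory.FiniteStability

/-!
# Descent of flatness to a finitely generated subalgebra
-/

set_option autoImplicit false
set_option backward.isDefEq.respectTransparency false

universe u

open scoped TensorProduct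
open LinearMap Function

namespace Groth.Agent.GenFlat

theorem comm_lTensor {R : Type u} [CommRing R] {M N Q : Type u} [AddCommGroup M] [Module R M] [AddCommGroup N]
    [Module R N] [AddCommGroup Q] [Module R Q] (f : N →ₗ[R] Q) (z : M ⊗[R] N) :
    TensorProduct.comm R M Q (f.lTensor M z) = f.rTensor M (TensorProduct.comm R M N z) := by
  induction z with
  | zero => simp
  | add a b ha hb => simp only [map_add, ha, hb]
  | tmul a b => rfl

section Kernel

variable {R : Type u} [CommRing R] (I : Ideal R) {C : Type u} [AddCommGroup C] [Module R C]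
  (R' : Type u) [CommRing R'] [Algebra R R']

/-- `I → I R'`. -/
noncomputable def toMap : I →ₗ[R] I.map (algebraMap R R') where
  toFun i := ⟨algebraMap R R' i, Ideal.mem_map_of_mem _ i.2⟩
  map_add' _ _ := Subtype.ext (map_add _ _ _)
  map_smul' r i := Subtype.ext (by
    change algebraMap R R' (r * (i : R)) = r • algebraMap R R' i
    rw [map_mul, Algebra.smul_def])

variable {I R'}

theorem TFlat.quotient_kernel {c : R}
    (hM : TFlat (Ideal.Quotient.mk I c) ((R ⧸ I) ⊗[R] C))
    {N : Type u} [AddCommGroup N] [Module R N] [Module (R ⧸ I) N] [IsScalarTower R (R ⧸ I) N]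
    {N' : Type u} [AddCommGroup N'] [Module R N'] [Module (R ⧸ I) N'] [IsScalarTower R (R ⧸ I) N']
    (f : N →ₗ[R ⧸ I] N') (hf : Injective f) (x : C ⊗[R] N)
    (hx : (f.restrictScalars R).lTensor C x = 0) : ∃ n : ℕ, c ^ n • x = 0 := by
  let e := fun (N : Type u) [AddCommGroup N] [Module R N] [Module (R ⧸ I) N] [IsScalarTower R (R ⧸ I) N] =>
    TensorProduct.comm R C N ≪≫ₗ
      (((TensorProduct.AlgebraTensorModule.cancelBaseChange R (R ⧸ I) (R ⧸ I) N C).symm ≪≫ₗ
        TensorProduct.comm (R ⧸ I) N ((R ⧸ I) ⊗[R] C)).restrictScalars R)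
  have hnat : ∀ z, f.lTensor ((R ⧸ I) ⊗[R] C) (e N z) = e N' ((f.restrictScalars R).lTensor C z) := by
    intro z
    induction z with
    | zero => simp
    | add a b ha hb => simp only [map_add, ha, hb]
    | tmul a b => simp [e]
  obtain ⟨n, hn⟩ := hM f hf (e N x) (by rw [hnat, hx, map_zero])
  refine ⟨n, (e N).injective ?_⟩
  rw [map_smul, map_zero, ← hn, ← algebraMap_smul (R ⧸ I) (c ^ n) (e N x), Ideal.Quotient.algebraMap_eq,
    map_pow]

/-- The kernel of `C ⊗ I R' → C ⊗ R'` is torsion once the kernel of `C ⊗ I → C` dies in it. -/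
theorem torsion_kernel_map {c : R} (hM : TFlat (Ideal.Quotient.mk I c) ((R ⧸ I) ⊗[R] C))
    (hk : ∀ k : C ⊗[R] I, I.subtype.lTensor C k = 0 → (toMap I R').lTensor C k = 0)
    (z : C ⊗[R] I.map (algebraMap R R'))
    (hz : ((I.map (algebraMap R R')).subtype.restrictScalars R).lTensor C z = 0) :
    ∃ n : ℕ, c ^ n • z = 0 := by
  let I' := I.map (algebraMap R R')
  let incl : I' →ₗ[R] R' := I'.subtype.restrictScalars R
  let π : (C →₀ R) →ₗ[R] C := Finsupp.linearCombination R id
  have hπ : Surjective π := Finsupp.linearCombination_id_surjective R C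
  let : AddCommGroup ↥(LinearMap.ker π) := Submodule.addCommGroup _
  let ι : LinearMap.ker π →ₗ[R] (C →₀ R) := (LinearMap.ker π).subtype
  have hex : Exact ι π := LinearMap.exact_subtype_ker_map π
  obtain ⟨w, rfl⟩ := LinearMap.rTensor_surjective I' hπ z
  obtain ⟨x, hx⟩ := (rTensor_exact R' hex hπ (incl.lTensor _ w)).1 (by
    rw [← LinearMap.comp_apply, rTensor_comp_lTensor, ← lTensor_comp_rTensor, LinearMap.comp_apply]
    exact hz)
  -- reduction modulo `I`
  let πb : (R ⧸ I) ⊗[R] (C →₀ R) →ₗ[R ⧸ I] (R ⧸ I) ⊗[R] C := π.baseChange (R ⧸ I)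
  let : AddCommGroup ↥(LinearMap.ker πb) := Submodule.addCommGroup _
  let v : LinearMap.ker π →ₗ[R] LinearMap.ker πb :=
    LinearMap.codRestrict ((LinearMap.ker πb).restrictScalars R)
      ((TensorProduct.mk R (R ⧸ I) (C →₀ R) 1) ∘ₗ ι) fun l => by
      change πb ((1 : R ⧸ I) ⊗ₜ[R] ι l) = 0
      simp [πb, ι, LinearMap.mem_ker.1 l.2]
  have hv : Surjective v := by
    rintro ⟨t, ht⟩
    obtain ⟨s, hs⟩ := (_root_.lTensor_exact (R ⧸ I) hex hπ t).1 ht
    have : ∀ s : (R ⧸ I) ⊗[R] LinearMap.ker π, ∃ l, (1 : R ⧸ I) ⊗ₜ[R] l = s := by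
      intro s
      induction s with
      | zero => exact ⟨0, by simp⟩
      | add a b ha hb =>
        obtain ⟨p, rfl⟩ := ha
        obtain ⟨q, rfl⟩ := hb
        exact ⟨p + q, TensorProduct.tmul_add _ _ _⟩
      | tmul r l =>
        obtain ⟨r, rfl⟩ := Ideal.Quotient.mk_surjective r
        refine ⟨r • l, ?_⟩
        rw [← TensorProduct.smul_tmul, Algebra.smul_def, mul_one, Ideal.Quotient.algebraMap_eq]
    obtain ⟨l, rfl⟩ := this s
    exact ⟨l, Subtype.ext hs⟩
  have hI : ∀ w : (C →₀ R) ⊗[R] I',
      (TensorProduct.mk R (R ⧸ I) (C →₀ R) 1).rTensor R' (incl.lTensor _ w) = 0 := by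
    intro w
    induction w with
    | zero => simp
    | add a b ha hb => rw [map_add, map_add, ha, hb, add_zero]
    | tmul a b =>
      obtain ⟨b, hb⟩ := b
      simp only [LinearMap.lTensor_tmul, LinearMap.rTensor_tmul, incl, LinearMap.coe_restrictScalars,
        Submodule.subtype_apply, TensorProduct.mk_apply]
      refine Submodule.span_induction (p := fun b _ => ((1 : R ⧸ I) ⊗ₜ[R] a) ⊗ₜ[R] b = (0 : _ ⊗[R] R'))
        ?_ (TensorProduct.tmul_zero _ _) (fun p q _ _ hp hq => by rw [TensorProduct.tmul_add, hp, hq, add_zero])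
        (fun r p _ hp => by
          have := congrArg ((LinearMap.mulLeft R r).lTensor _) hp
          simpa using this) hb
      rintro _ ⟨i, hi, rfl⟩
      rw [Algebra.algebraMap_eq_smul_one, ← TensorProduct.smul_tmul, TensorProduct.smul_tmul',
        Algebra.smul_def, mul_one, Ideal.Quotient.algebraMap_eq, Ideal.Quotient.eq_zero_iff_mem.2 hi,
        TensorProduct.zero_tmul, TensorProduct.zero_tmul]
  let e := fun (N : Type u) [AddCommGroup N] [Module R N] [Module (R ⧸ I) N] [IsScalarTower R (R ⧸ I) N] =>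
    (TensorProduct.AlgebraTensorModule.cancelBaseChange R (R ⧸ I) (R ⧸ I) N R').restrictScalars R
  have hnat : ∀ y, (LinearMap.ker πb).subtype.rTensor ((R ⧸ I) ⊗[R] R') ((e _).symm y) =
      (e _).symm (((LinearMap.ker πb).subtype.restrictScalars R).rTensor R' y) := by
    intro y
    induction y with
    | zero => simp
    | add a b ha hb => simp only [map_add, ha, hb]
    | tmul a b => simp [e]
  obtain ⟨n, hn⟩ := hM.rTensor_kernel (u := (LinearMap.ker πb).subtype) (v := πb) Subtype.val_injective
    (LinearMap.exact_subtype_ker_map πb) (LinearMap.lTensor_surjective (R ⧸ I) hπ)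
    ((e _).symm (v.rTensor R' x)) (by
      rw [hnat, ← rTensor_comp_apply]
      change (e _).symm ((TensorProduct.mk R (R ⧸ I) (C →₀ R) 1 ∘ₗ ι).rTensor R' x) = 0
      rw [rTensor_comp_apply, hx, hI, map_zero])
  have hn' : v.rTensor R' (c ^ n • x) = 0 := by
    rw [← map_pow, ← Ideal.Quotient.algebraMap_eq, algebraMap_smul, ← map_smul,
      LinearEquiv.map_eq_zero_iff] at hn
    rwa [map_smul]
  let : AddCommGroup ↥(LinearMap.ker v) := Submodule.addCommGroup _
  obtain ⟨x₁, hx₁⟩ := (rTensor_exact R' (LinearMap.exact_subtype_ker_map v) hv (c ^ n • x)).1 hn'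
  have key : ∀ x₁ : LinearMap.ker v ⊗[R] R', ∃ t : (C →₀ R) ⊗[R] I',
      incl.lTensor _ t = (ι ∘ₗ (LinearMap.ker v).subtype).rTensor R' x₁ ∧ π.rTensor I' t = 0 := by
    intro x₁
    induction x₁ with
    | zero => exact ⟨0, by simp, by simp⟩
    | add a b ha hb =>
      obtain ⟨p, hp, hp'⟩ := ha
      obtain ⟨q, hq, hq'⟩ := hb
      exact ⟨p + q, by rw [map_add, map_add, hp, hq], by rw [map_add, hp', hq', add_zero]⟩
    | tmul l r =>
      obtain ⟨⟨l, hl⟩, hlv⟩ := l
      have h0 : ((1 : R ⧸ I) ⊗ₜ[R] l) = 0 := congrArg Subtype.val (LinearMap.mem_ker.1 hlv)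
      have h1 : l ∈ I • (⊤ : Submodule R (C →₀ R)) := by
        have := congrArg (TensorProduct.quotTensorEquivQuotSMul (C →₀ R) I) h0
        rw [← map_one (Ideal.Quotient.mk I), TensorProduct.quotTensorEquivQuotSMul_mk_tmul, one_smul, map_zero,
          Submodule.Quotient.mk_eq_zero] at this
        exact this
      obtain ⟨k, hk'⟩ : ∃ k : (C →₀ R) ⊗[R] I, I.subtype.lTensor _ k = l ⊗ₜ[R] (1 : R) := by
        refine Submodule.smul_induction_on h1 (fun i hi a _ => ⟨a ⊗ₜ ⟨i, hi⟩, ?_⟩) fun a b ⟨p, hp⟩ ⟨q, hq⟩ =>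
          ⟨p + q, by rw [map_add, hp, hq, TensorProduct.add_tmul]⟩
        rw [TensorProduct.smul_tmul, LinearMap.lTensor_tmul, smul_eq_mul, mul_one]
        rfl
      let g : I →ₗ[R] I' := ((LinearMap.mulLeft R' r).restrict
        (p := I') (q := I') fun b hb => I'.mul_mem_left r hb).restrictScalars R ∘ₗ toMap I R'
      have hg : incl ∘ₗ g = LinearMap.toSpanSingleton R R' r ∘ₗ I.subtype := LinearMap.ext fun i => by
        change r * algebraMap R R' i = (i : R) • r
        rw [Algebra.smul_def, mul_comm]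
      refine ⟨g.lTensor _ k, ?_, ?_⟩
      · rw [← lTensor_comp_apply, hg, lTensor_comp_apply, hk']
        simp [ι]
      · have hzero : I.subtype.lTensor C (π.rTensor I k) = 0 := by
          rw [← LinearMap.comp_apply, lTensor_comp_rTensor, ← rTensor_comp_lTensor, LinearMap.comp_apply,
            hk', rTensor_tmul, LinearMap.mem_ker.1 hl, TensorProduct.zero_tmul]
        rw [← LinearMap.comp_apply, rTensor_comp_lTensor, ← lTensor_comp_rTensor, LinearMap.comp_apply,
          lTensor_comp_apply, hk _ hzero, map_zero]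
  obtain ⟨t, ht, ht'⟩ := key x₁
  refine ⟨n, ?_⟩
  have h2 : t = c ^ n • w := by
    apply Module.Flat.lTensor_preserves_injective_linearMap (M := C →₀ R) incl Subtype.val_injective
    rw [ht, rTensor_comp_apply, hx₁, map_smul, hx, map_smul]
  rw [← map_smul, ← h2, ht']

end Kernel

section Local

variable {R : Type u} [CommRing R] {C : Type u} [CommRing C] [Algebra R C]
  {R' : Type u} [CommRing R'] [Algebra R R']

/-- Kernels that are `c`-torsion die at primes not containing `c`. -/
theorem lTensor_localization_injective {c : R} (q : Ideal (R' ⊗[R] C)) [q.IsPrime]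
    (hc : algebraMap R (R' ⊗[R] C) c ∉ q)
    {N : Type u} [AddCommGroup N] [Module R N] [Module R' N] [IsScalarTower R R' N]
    {N' : Type u} [AddCommGroup N'] [Module R N'] [Module R' N'] [IsScalarTower R R' N']
    (f : N →ₗ[R'] N') (h : ∀ x : C ⊗[R] N, (f.restrictScalars R).lTensor C x = 0 → ∃ n : ℕ, c ^ n • x = 0) :
    Injective (f.lTensor (Localization.AtPrime q)) := by
  let C' := R' ⊗[R] C
  let D := Localization.AtPrime q
  let e := fun (N : Type u) [AddCommGroup N] [Module R N] [Module R' N] [IsScalarTower R R' N] =>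
    ((TensorProduct.comm R' C' N ≪≫ₗ TensorProduct.AlgebraTensorModule.cancelBaseChange R R' R' N C).restrictScalars R)
      ≪≫ₗ TensorProduct.comm R N C
  let fC : C' ⊗[R'] N →ₗ[C'] C' ⊗[R'] N' := TensorProduct.AlgebraTensorModule.lTensor C' C' f
  have hnat : ∀ z, e N' (fC z) = (f.restrictScalars R).lTensor C (e N z) := by
    intro z
    induction z with
    | zero => simp
    | add a b ha hb => simp only [map_add, ha, hb]
    | tmul a b =>
      induction a using TensorProduct.induction_on with
      | zero => simp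
      | add a a' ha ha' => simp only [TensorProduct.add_tmul, map_add, ha, ha']
      | tmul r s =>
        change s ⊗ₜ[R] (r • f b) = s ⊗ₜ[R] (f (r • b))
        rw [map_smul]
  let g := TensorProduct.AlgebraTensorModule.rTensor R' N (Algebra.linearMap C' D)
  let g' := TensorProduct.AlgebraTensorModule.rTensor R' N' (Algebra.linearMap C' D)
  have : IsLocalizedModule q.primeCompl g := inferInstance
  have : IsLocalizedModule q.primeCompl g' := inferInstance
  let fD : D ⊗[R'] N →ₗ[C'] D ⊗[R'] N' := TensorProduct.AlgebraTensorModule.lTensor C' D f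
  have hgf : ∀ z, fD (g z) = g' (fC z) := by
    intro z
    induction z with
    | zero => simp
    | add a b ha hb => simp only [map_add, ha, hb]
    | tmul a b => simp [fD, fC, g, g']
  rw [injective_iff_map_eq_zero]
  intro x hx
  obtain ⟨⟨z, s⟩, hz⟩ := IsLocalizedModule.surj q.primeCompl g x
  have h0 : g' (fC z) = 0 := by
    rw [← hgf, ← hz, Submonoid.smul_def, map_smul]
    change (s : C') • f.lTensor D x = 0
    rw [hx, smul_zero]
  obtain ⟨t, ht⟩ := (IsLocalizedModule.eq_zero_iff q.primeCompl g').1 h0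
  obtain ⟨n, hn⟩ := h (e N ((t : C') • z)) (by rw [← hnat, map_smul, ← Submonoid.smul_def, ht, map_zero])
  rw [← map_smul, LinearEquiv.map_eq_zero_iff, ← algebraMap_smul C' (c ^ n) ((t : C') • z), smul_smul] at hn
  have hu : algebraMap R C' (c ^ n) * t * s ∈ q.primeCompl :=
    mul_mem (mul_mem (by rw [map_pow]; exact pow_mem (show algebraMap R C' c ∈ q.primeCompl from hc) n) t.2) s.2
  apply IsLocalizedModule.smul_injective g (⟨_, hu⟩ : q.primeCompl)
  dsimp only
  rw [smul_zero, Submonoid.smul_def, mul_smul, show (s : C') • x = g z from hz, ← map_smul, hn, map_zero]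

variable [IsNoetherianRing R']

set_option synthInstance.maxHeartbeats 100000 in
/-- Flatness at the primes over a stratum. -/
theorem flat_localization {I : Ideal R} [IsNoetherianRing (R' ⊗[R] C)] {c : R}
    (hM : TFlat (Ideal.Quotient.mk I c) ((R ⧸ I) ⊗[R] C))
    (hk : ∀ k : C ⊗[R] I, I.subtype.lTensor C k = 0 → (toMap I R').lTensor C k = 0)
    (q : Ideal (R' ⊗[R] C)) [q.IsPrime] (hI : ∀ i ∈ I, algebraMap R (R' ⊗[R] C) i ∈ q)
    (hc : algebraMap R (R' ⊗[R] C) c ∉ q) : Module.Flat R' (Localization.AtPrime q) := by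
  let D := Localization.AtPrime q
  let I' := I.map (algebraMap R R')
  let A := R' ⧸ I'
  let : Algebra (R ⧸ I) A := (Ideal.quotientMap I' (algebraMap R R') Ideal.le_comap_map).toAlgebra
  have : IsScalarTower R (R ⧸ I) A := IsScalarTower.of_algebraMap_eq fun r => rfl
  have : Module.Flat A (A ⊗[R'] D) := by
    rw [Module.Flat.iff_rTensor_injective']
    intro J
    have hinj : Injective ((J.subtype.restrictScalars R').lTensor D) :=
      lTensor_localization_injective q hc _ fun x hx =>
        hM.quotient_kernel (J.subtype.restrictScalars (R ⧸ I)) Subtype.val_injective x hx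
    let e := fun (N : Type u) [AddCommGroup N] [Module R' N] [Module A N] [IsScalarTower R' A N] =>
      (TensorProduct.AlgebraTensorModule.cancelBaseChange R' A A N D).restrictScalars R' ≪≫ₗ
        TensorProduct.comm R' N D
    have hnat : ∀ y, e A (J.subtype.rTensor (A ⊗[R'] D) y) = (J.subtype.restrictScalars R').lTensor D (e J y) := by
      intro y
      induction y with
      | zero => simp
      | add a b ha hb => simp only [map_add, ha, hb]
      | tmul a b =>
        induction b with
        | zero => simp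
        | add b b' hb hb' => simp only [TensorProduct.tmul_add, map_add, hb, hb']
        | tmul r s => simp [e]
    intro y y' hy
    apply (e J).injective
    apply hinj
    rw [← hnat, ← hnat, hy]
  refine FlatCrit.flat_of_le_jacobson (R := R') (S := D) (M := D) (I := I') ?_
    (lTensor_localization_injective q hc _ fun x hx => torsion_kernel_map hM hk x hx)
  rw [IsLocalRing.jacobson_eq_maximalIdeal ⊥ bot_ne_top, Ideal.map_le_iff_le_comap, Ideal.map_le_iff_le_comap]
  intro i hi
  rw [Ideal.mem_comap, Ideal.mem_comap, IsScalarTower.algebraMap_apply R' (R' ⊗[R] C) D,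
    ← IsScalarTower.algebraMap_apply R R' (R' ⊗[R] C)]
  exact (IsLocalization.AtPrime.to_map_mem_maximal_iff D q _).2 (hI i hi)

end Local

section Main

variable {R : Type u} [CommRing R] [IsNoetherianRing R] {C : Type u} [CommRing C] [Algebra R C]
  [Algebra.FiniteType R C] {B : Type u} [CommRing B] [Algebra R B] [Module.Flat B (B ⊗[R] C)]

/-- Elements of `I B` come from a finite stage. -/
theorem exists_finset_mem_map (I : Ideal R) {p : B} (hp : p ∈ I.map (algebraMap R B)) :
    ∃ s : Finset B, ∀ S : Subalgebra R B, ↑s ⊆ (S : Set B) →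
      p ∈ ((I.map (algebraMap R S)).restrictScalars R).map S.val.toLinearMap := by
  classical
  induction hp using Submodule.span_induction with
  | mem x hx =>
    obtain ⟨i, hi, rfl⟩ := hx
    exact ⟨∅, fun S _ => ⟨algebraMap R S i, Ideal.mem_map_of_mem _ hi, rfl⟩⟩
  | zero => exact ⟨∅, fun S _ => zero_mem _⟩
  | add x y _ _ hx hy =>
    obtain ⟨s, hs⟩ := hx
    obtain ⟨t, ht⟩ := hy
    refine ⟨s ∪ t, fun S hS => ?_⟩
    rw [Finset.coe_union, Set.union_subset_iff] at hS
    exact add_mem (hs S hS.1) (ht S hS.2)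
  | smul b x _ hx =>
    obtain ⟨s, hs⟩ := hx
    refine ⟨insert b s, fun S hS => ?_⟩
    rw [Finset.coe_insert, Set.insert_subset_iff] at hS
    obtain ⟨y, hy, rfl⟩ := hs S hS.2
    exact ⟨⟨b, hS.1⟩ * y, Ideal.mul_mem_left _ _ hy, rfl⟩

/-- A single element of the kernel of `C ⊗ I → C` dies at a finite stage. -/
theorem exists_kill_one (I : Ideal R) (k : C ⊗[R] I) (hk : I.subtype.lTensor C k = 0) :
    ∃ s : Finset B, ∀ S : Subalgebra R B, ↑s ⊆ (S : Set B) → (toMap I S).lTensor C k = 0 := by
  classical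
  let j : I →ₗ[R] B := Algebra.linearMap R B ∘ₗ I.subtype
  let IB := I.map (algebraMap R B)
  have h1 : (toMap I B).lTensor C k = 0 := by
    have hinj : Injective ((IB.subtype.restrictScalars R).lTensor C) := by
      let e := fun (N : Type u) [AddCommGroup N] [Module R N] [Module B N] [IsScalarTower R B N] =>
        (TensorProduct.AlgebraTensorModule.cancelBaseChange R B B N C).restrictScalars R ≪≫ₗ TensorProduct.comm R N C
      have hnat : ∀ y, (IB.subtype.restrictScalars R).lTensor C (e IB y) = e B (IB.subtype.rTensor (B ⊗[R] C) y) := by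
        intro y
        induction y with
        | zero => simp
        | add a b ha hb => simp only [map_add, ha, hb]
        | tmul a b =>
          induction b with
          | zero => simp
          | add b b' hb hb' => simp only [TensorProduct.tmul_add, map_add, hb, hb']
          | tmul r s => simp [e]
      intro y y' hy
      obtain ⟨y, rfl⟩ := (e IB).surjective y
      obtain ⟨y', rfl⟩ := (e IB).surjective y'
      rw [hnat, hnat] at hy
      exact congrArg _ (Module.Flat.rTensor_preserves_injective_linearMap _ Subtype.val_injective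
        ((e B).injective hy))
    apply hinj
    rw [map_zero, ← lTensor_comp_apply, show IB.subtype.restrictScalars R ∘ₗ toMap I B =
      Algebra.linearMap R B ∘ₗ I.subtype from rfl, lTensor_comp_apply, hk, map_zero]
  let N := LinearMap.range (toMap I B)
  have hN : N.FG := by
    have := (IsNoetherian.noetherian (⊤ : Submodule R I)).map (toMap I B)
    rwa [Submodule.map_top] at this
  let k' := TensorProduct.comm R C N ((toMap I B).rangeRestrict.lTensor C k)
  have h2 : N.subtype.rTensor C k' = 0 := by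
    rw [show N.subtype.rTensor C k' = TensorProduct.comm R C IB ((toMap I B).lTensor C k) from ?_, h1, map_zero]
    rw [show (toMap I B).lTensor C k = N.subtype.lTensor C ((toMap I B).rangeRestrict.lTensor C k) from by
      rw [← lTensor_comp_apply]; rfl]
    exact (comm_lTensor N.subtype _).symm
  obtain ⟨P, ⟨gens, hgens⟩, hle, hP⟩ := hN.exists_rTensor_fg_inclusion_eq (x := k') (y := 0) (by rw [h2, map_zero])
  choose s hs using fun p : IB => exists_finset_mem_map I p.2
  refine ⟨gens.biUnion s, fun S hS => ?_⟩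
  let ψ : I.map (algebraMap R S) →ₗ[R] B :=
    S.val.toLinearMap ∘ₗ (I.map (algebraMap R S)).subtype.restrictScalars R
  have hψ : Injective ψ := Subtype.val_injective.comp Subtype.val_injective
  have hPS : P.map (IB.subtype.restrictScalars R) ≤ LinearMap.range ψ := by
    rw [← hgens, Submodule.map_span, Submodule.span_le]
    rintro _ ⟨p, hp, rfl⟩
    obtain ⟨y, hy, hyp⟩ := hs p S ((Finset.coe_subset.2 (Finset.subset_biUnion_of_mem s hp)).trans hS)
    exact ⟨⟨y, hy⟩, hyp⟩
  let h : P →ₗ[R] I.map (algebraMap R S) := (LinearEquiv.ofInjective ψ hψ).symm.toLinearMap ∘ₗ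
    LinearMap.codRestrict (LinearMap.range ψ) (IB.subtype.restrictScalars R ∘ₗ P.subtype)
      fun p => hPS ⟨p, p.2, rfl⟩
  have hfac : toMap I S = h ∘ₗ Submodule.inclusion hle ∘ₗ (toMap I B).rangeRestrict := LinearMap.ext fun i => by
    apply hψ
    simp only [h, LinearMap.comp_apply, LinearEquiv.coe_coe]
    rw [show ∀ a, ψ ((LinearEquiv.ofInjective ψ hψ).symm a) = a.1 from fun a =>
      congrArg Subtype.val ((LinearEquiv.ofInjective ψ hψ).apply_symm_apply a)]
    rfl
  have : (Submodule.inclusion hle).lTensor C ((toMap I B).rangeRestrict.lTensor C k) = 0 := by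
    apply (TensorProduct.comm R C P).injective
    rw [map_zero, comm_lTensor, hP, map_zero]
  have e : (toMap I S).lTensor C k =
      h.lTensor C ((Submodule.inclusion hle).lTensor C ((toMap I B).rangeRestrict.lTensor C k)) := by
    rw [hfac, LinearMap.lTensor_comp C h, LinearMap.comp_apply,
      LinearMap.lTensor_comp C (Submodule.inclusion hle), LinearMap.comp_apply]
  rw [e, this, map_zero]

/-- The kernel of `C ⊗ I → C` dies at a finite stage. -/
theorem exists_kill (I : Ideal R) : ∃ s : Finset B, ∀ S : Subalgebra R B, ↑s ⊆ (S : Set B) →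
    ∀ k : C ⊗[R] I, I.subtype.lTensor C k = 0 → (toMap I S).lTensor C k = 0 := by
  classical
  have : IsNoetherianRing C := Algebra.FiniteType.isNoetherianRing R C
  have : Module.Finite C (C ⊗[R] I) := Module.Finite.base_change R C I
  have : IsNoetherian C (C ⊗[R] I) := inferInstance
  let K := LinearMap.ker (TensorProduct.AlgebraTensorModule.lTensor C C I.subtype)
  obtain ⟨t, ht⟩ : K.FG := IsNoetherian.noetherian K
  choose s hs using fun k : {k // k ∈ t} => exists_kill_one (B := B) I k.1
    (show k.1 ∈ K from ht ▸ Submodule.subset_span k.2)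
  refine ⟨t.attach.biUnion s, fun S hS k hk => ?_⟩
  have hk' : k ∈ Submodule.span C (t : Set (C ⊗[R] I)) := ht.symm ▸ hk
  induction hk' using Submodule.span_induction with
  | mem x hx =>
    exact hs ⟨x, hx⟩ S ((Finset.coe_subset.2
      (Finset.subset_biUnion_of_mem s (Finset.mem_attach t ⟨x, hx⟩))).trans hS)
  | zero => exact map_zero _
  | add x y hx' hy' hx hy =>
    rw [map_add, hx (ht.le hx'), hy (ht.le hy'), add_zero]
  | smul a x hx' hx =>
    change TensorProduct.AlgebraTensorModule.lTensor C C (toMap I S) (a • x) = 0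
    rw [map_smul]
    change a • (toMap I S).lTensor C x = 0
    rw [hx (ht.le hx'), smul_zero]

/-- Flatness at the primes over `V(J)`. -/
theorem exists_flat_over (J : Ideal R) : ∃ s : Finset B, ∀ S : Subalgebra R B, ↑s ⊆ (S : Set B) →
    Algebra.FiniteType R S → ∀ (q : Ideal (S ⊗[R] C)) [q.IsPrime],
      (∀ i ∈ J, algebraMap R (S ⊗[R] C) i ∈ q) → Module.Flat S (Localization.AtPrime q) := by
  classical
  induction J using WellFoundedGT.induction with
  | _ J ih =>
  by_cases htop : J = ⊤
  · refine ⟨∅, fun S _ _ q hq h => ?_⟩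
    exact absurd (q.eq_top_of_isUnit_mem (h 1 (htop ▸ trivial)) (isUnit_one.map _)) hq.ne_top
  by_cases hJ : J.IsPrime
  · have : Algebra.FiniteType (R ⧸ J) ((R ⧸ J) ⊗[R] C) := inferInstance
    obtain ⟨c, hc, hM⟩ := gf_of_finiteType (R := R ⧸ J) ((R ⧸ J) ⊗[R] C) ((R ⧸ J) ⊗[R] C)
    obtain ⟨c, rfl⟩ := Ideal.Quotient.mk_surjective c
    have hcJ : c ∉ J := fun h => hc (Ideal.Quotient.eq_zero_iff_mem.2 h)
    obtain ⟨s, hs⟩ := exists_kill (B := B) (C := C) J
    obtain ⟨t, ht⟩ := ih (J ⊔ Ideal.span {c}) (lt_of_le_of_ne le_sup_left fun h =>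
      hcJ (h ▸ Ideal.mem_sup_right (Ideal.mem_span_singleton_self c)))
    refine ⟨s ∪ t, fun S hS hfg q hq h => ?_⟩
    rw [Finset.coe_union, Set.union_subset_iff] at hS
    by_cases hcq : algebraMap R (S ⊗[R] C) c ∈ q
    · refine ht S hS.2 hfg q fun i hi => ?_
      obtain ⟨a, ha, b, hb, rfl⟩ := Submodule.mem_sup.1 hi
      obtain ⟨b, rfl⟩ := Ideal.mem_span_singleton.1 hb
      rw [map_add, map_mul]
      exact q.add_mem (h a ha) (q.mul_mem_right _ hcq)
    · have : IsNoetherianRing S := Algebra.FiniteType.isNoetherianRing R S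
      have : IsNoetherianRing (S ⊗[R] C) := Algebra.FiniteType.isNoetherianRing S (S ⊗[R] C)
      exact flat_localization hM (hs S hS.1) q h hcq
  · obtain ⟨a, b, ha, hb, hab⟩ : ∃ a b, a ∉ J ∧ b ∉ J ∧ a * b ∈ J := by
      by_contra! h
      exact hJ ⟨htop, fun {x y} hxy => or_iff_not_imp_left.2 fun hx => by_contra fun hy => h x y hx hy hxy⟩
    obtain ⟨s, hs⟩ := ih (J ⊔ Ideal.span {a}) (lt_of_le_of_ne le_sup_left fun h =>
      ha (h ▸ Ideal.mem_sup_right (Ideal.mem_span_singleton_self a)))
    obtain ⟨t, ht⟩ := ih (J ⊔ Ideal.span {b}) (lt_of_le_of_ne le_sup_left fun h =>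
      hb (h ▸ Ideal.mem_sup_right (Ideal.mem_span_singleton_self b)))
    refine ⟨s ∪ t, fun S hS hfg q hq h => ?_⟩
    rw [Finset.coe_union, Set.union_subset_iff] at hS
    have hext : ∀ x, algebraMap R (S ⊗[R] C) x ∈ q → ∀ i ∈ J ⊔ Ideal.span {x}, algebraMap R (S ⊗[R] C) i ∈ q := by
      intro x hx i hi
      obtain ⟨p, hp, r, hr, rfl⟩ := Submodule.mem_sup.1 hi
      obtain ⟨r, rfl⟩ := Ideal.mem_span_singleton.1 hr
      rw [map_add, map_mul]
      exact q.add_mem (h p hp) (q.mul_mem_right _ hx)
    have hab' := h _ hab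
    rw [map_mul] at hab'
    rcases hq.mem_or_mem hab' with hqa | hqb
    · exact hs S hS.1 hfg q (hext a hqa)
    · exact ht S hS.2 hfg q (hext b hqb)

variable (R C B) in
/-- Descent of flatness to a finitely generated subalgebra (EGA IV 11.2.6). -/
theorem exists_flat_subalgebra : ∃ s : Finset B, ∀ S : Subalgebra R B, ↑s ⊆ (S : Set B) →
    Algebra.FiniteType R S → Module.Flat S (S ⊗[R] C) := by
  obtain ⟨s, hs⟩ := exists_flat_over (B := B) (C := C) (⊥ : Ideal R)
  refine ⟨s, fun S hS hfg => ?_⟩
  exact Module.flat_of_isLocalized_maximal (R := S) (S ⊗[R] C) (S ⊗[R] C)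
    (fun P _ => Localization.AtPrime P) (fun P _ => Algebra.linearMap _ _)
    fun P hP => hs S hS hfg P fun i hi => by rw [Submodule.mem_bot] at hi; rw [hi, map_zero]; exact zero_mem _

end Main

end Groth.Agent.GenFlat
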