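import Groth.Agent.DimTheory.Algebra
import Mathlib.RingTheory.Flat.Basic
import Mathlib.RingTheory.Ideal.AssociatedPrime.Finiteness
import Mathlib.RingTheory.Localization.FractionRing
import Mathlib.RingTheory.MvPolynomial.Localization
import Mathlib.RingTheory.Localization.Integral
import Mathlib.RingTheory.IntegralClosure.Algebra.Basic
import Mathlib.LinearAlgebra.TensorProduct.Tower

/-!
# Generic flatness over Noetherian domains

`TFlat c M` says that `M` is flat up to `c`-power torsion.
-/

set_option autoImplicit false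
set_option backward.isDefEq.respectTransparency false

universe u

open scoped TensorProduct
open LinearMap Function

namespace Groth.Agent.GenFlat

variable {R : Type u} [CommRing R]

/-- `M` is flat up to `c`-power torsion. -/
def TFlat (c : R) (M : Type u) [AddCommGroup M] [Module R M] : Prop :=
  ∀ ⦃N : Type u⦄ [AddCommGroup N] [Module R N] ⦃N' : Type u⦄ [AddCommGroup N'] [Module R N']
    (f : N →ₗ[R] N'), Injective f → ∀ x : M ⊗[R] N, f.lTensor M x = 0 → ∃ n : ℕ, c ^ n • x = 0

variable {A B C M : Type u} [AddCommGroup A] [Module R A] [AddCommGroup B] [Module R B]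
  [AddCommGroup C] [Module R C] [AddCommGroup M] [Module R M]

theorem tflat_of_flat (c : R) [Module.Flat R M] : TFlat c M := fun N _ _ N' _ _ f hf x hx =>
  ⟨0, by rw [Module.Flat.lTensor_preserves_injective_linearMap f hf (hx.trans (map_zero _).symm),
    smul_zero]⟩

theorem TFlat.mono {c d : R} (h : TFlat c M) (hd : c ∣ d) : TFlat d M := fun N _ _ N' _ _ f hf x hx => by
  obtain ⟨n, hn⟩ := h f hf x hx
  obtain ⟨e, rfl⟩ := hd
  exact ⟨n, by rw [mul_pow, mul_comm, mul_smul, hn, smul_zero]⟩

theorem TFlat.congr {c : R} (h : TFlat c A) (e : A ≃ₗ[R] B) : TFlat c B := fun N _ _ N' _ _ f hf x hx => by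
  obtain ⟨n, hn⟩ := h f hf (e.symm.toLinearMap.rTensor N x) (by
    rw [← LinearMap.comp_apply, lTensor_comp_rTensor, ← rTensor_comp_lTensor, LinearMap.comp_apply, hx, map_zero])
  refine ⟨n, (e.symm.rTensor N).injective ?_⟩
  rw [map_zero, map_smul]
  exact hn

theorem tflat_of_torsion {c : R} (h : ∀ m : M, ∃ n : ℕ, c ^ n • m = 0) : TFlat c M :=
  fun N _ _ N' _ _ f _ x hx => by
    clear hx
    induction x with
    | zero => exact ⟨0, smul_zero _⟩
    | tmul m y =>
      obtain ⟨n, hn⟩ := h m
      exact ⟨n, by rw [TensorProduct.smul_tmul', hn, TensorProduct.zero_tmul]⟩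
    | add a b ha hb =>
      obtain ⟨n, hn⟩ := ha
      obtain ⟨m, hm⟩ := hb
      refine ⟨n + m, ?_⟩
      rw [smul_add, pow_add, mul_smul, mul_smul, hm, smul_zero, add_zero, smul_comm, hn, smul_zero]

theorem TFlat.rTensor_kernel {c : R} (hC : TFlat c C) {u : A →ₗ[R] B} {v : B →ₗ[R] C}
    (hu : Injective u) (he : Exact u v) (hv : Surjective v)
    {N : Type u} [AddCommGroup N] [Module R N] (x : A ⊗[R] N) (hx : u.rTensor N x = 0) :
    ∃ n : ℕ, c ^ n • x = 0 := by
  let π : (N →₀ R) →ₗ[R] N := Finsupp.linearCombination R id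
  have hπ : Surjective π := Finsupp.linearCombination_id_surjective R N
  let : AddCommGroup ↥(LinearMap.ker π) := Submodule.addCommGroup _
  let ι : LinearMap.ker π →ₗ[R] (N →₀ R) := (LinearMap.ker π).subtype
  have hex : Exact ι π := LinearMap.exact_subtype_ker_map π
  obtain ⟨x', rfl⟩ := LinearMap.lTensor_surjective A hπ x
  obtain ⟨y, hy⟩ := ((_root_.lTensor_exact B (f := ι) (g := π) hex hπ) (u.rTensor _ x')).1 (by
    rw [← LinearMap.comp_apply, lTensor_comp_rTensor, ← rTensor_comp_lTensor, LinearMap.comp_apply]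
    exact hx)
  have hvu : v ∘ₗ u = 0 := LinearMap.ext fun a => he.apply_apply_eq_zero a
  obtain ⟨n, hn⟩ := hC ι Subtype.val_injective (v.rTensor _ y) (by
    rw [← LinearMap.comp_apply, lTensor_comp_rTensor, ← rTensor_comp_lTensor, LinearMap.comp_apply, hy,
      ← rTensor_comp_apply, hvu, rTensor_zero]
    rfl)
  obtain ⟨a, ha⟩ := (rTensor_exact (LinearMap.ker π) he hv (c ^ n • y)).1 (by rw [map_smul, hn])
  refine ⟨n, ?_⟩
  have h1 : ι.lTensor A a = c ^ n • x' := by
    apply Module.Flat.rTensor_preserves_injective_linearMap (M := N →₀ R) u hu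
    rw [map_smul, ← hy, ← map_smul, ← ha, ← LinearMap.comp_apply, rTensor_comp_lTensor,
      ← lTensor_comp_rTensor, LinearMap.comp_apply]
  rw [← map_smul, ← h1, ← LinearMap.comp_apply, ← lTensor_comp,
    show π ∘ₗ ι = 0 from LinearMap.ext fun a => hex.apply_apply_eq_zero a, lTensor_zero]
  rfl

theorem TFlat.extension {c : R} (hA : TFlat c A) (hC : TFlat c C) {u : A →ₗ[R] B} {v : B →ₗ[R] C}
    (hu : Injective u) (he : Exact u v) (hv : Surjective v) : TFlat c B := fun N _ _ N' _ _ f hf x hx => by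
  obtain ⟨n, hn⟩ := hC f hf (v.rTensor N x) (by
    rw [← LinearMap.comp_apply, lTensor_comp_rTensor, ← rTensor_comp_lTensor, LinearMap.comp_apply, hx,
      map_zero])
  obtain ⟨a, ha⟩ := (rTensor_exact N he hv (c ^ n • x)).1 (by rw [map_smul, hn])
  obtain ⟨k, hk⟩ := hC.rTensor_kernel hu he hv (f.lTensor A a) (by
    rw [← LinearMap.comp_apply, rTensor_comp_lTensor, ← lTensor_comp_rTensor, LinearMap.comp_apply, ha,
      map_smul, hx, smul_zero])
  obtain ⟨m, hm⟩ := hA f hf (c ^ k • a) (by rw [map_smul, hk])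
  refine ⟨m + k + n, ?_⟩
  rw [pow_add, pow_add, mul_smul, mul_smul, ← ha, ← map_smul, ← map_smul, hm, map_zero]

/-- `M` is flat away from a nonzero element. -/
def GF (R : Type u) [CommRing R] (M : Type u) [AddCommGroup M] [Module R M] : Prop :=
  ∃ c : R, c ≠ 0 ∧ TFlat c M

section

variable [IsDomain R]

theorem GF.extension (hA : GF R A) (hC : GF R C) {u : A →ₗ[R] B} {v : B →ₗ[R] C}
    (hu : Injective u) (he : Exact u v) (hv : Surjective v) : GF R B := by
  obtain ⟨c, hc, h⟩ := hA
  obtain ⟨d, hd, h'⟩ := hC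
  exact ⟨c * d, mul_ne_zero hc hd,
    (h.mono (dvd_mul_right c d)).extension (h'.mono (dvd_mul_left d c)) hu he hv⟩

set_option maxHeartbeats 1000000 in
set_option synthInstance.maxHeartbeats 100000 in
theorem gf_quotient [IsNoetherianRing R] (n : ℕ) (ih : ∀ m < n, ∀ (M : Type u) [AddCommGroup M] [Module (MvPolynomial (Fin m) R) M]
    [Module R M] [IsScalarTower R (MvPolynomial (Fin m) R) M] [Module.Finite (MvPolynomial (Fin m) R) M],
    GF R M) (P : Ideal (MvPolynomial (Fin n) R)) [P.IsPrime] :
    GF R (MvPolynomial (Fin n) R ⧸ P) := by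
  let S := MvPolynomial (Fin n) R
  let D := MvPolynomial (Fin n) R ⧸ P
  by_cases hP : P = ⊥
  · subst hP
    exact ⟨1, one_ne_zero, (tflat_of_flat (M := S) 1).congr
      ((Submodule.quotEquivOfEqBot (⊥ : Ideal S) rfl).symm.restrictScalars R)⟩
  by_cases hR : ∃ r : R, r ≠ 0 ∧ algebraMap R S r ∈ P
  · obtain ⟨r, hr, hrP⟩ := hR
    refine ⟨r, hr, tflat_of_torsion fun m => ⟨1, ?_⟩⟩
    obtain ⟨q, rfl⟩ := Ideal.Quotient.mk_surjective m
    rw [pow_one]
    change Ideal.Quotient.mk P (r • q) = 0
    rw [Ideal.Quotient.eq_zero_iff_mem, Algebra.smul_def]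
    exact P.mul_mem_right _ hrP
  -- the fraction fields
  let K := FractionRing R
  let L := FractionRing D
  have hinj : Injective (algebraMap R L) := by
    rw [IsScalarTower.algebraMap_eq R D L, RingHom.coe_comp]
    refine (IsFractionRing.injective D L).comp ((injective_iff_map_eq_zero _).2 fun r hr => ?_)
    by_contra hne
    exact hR ⟨r, hne, Ideal.Quotient.eq_zero_iff_mem.1 hr⟩
  have : FaithfulSMul R L := (faithfulSMul_iff_algebraMap_injective R L).2 hinj
  let : Algebra K L := FractionRing.liftAlgebra R L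
  let x : Fin n → L := fun j => algebraMap D L (Ideal.Quotient.mk P (MvPolynomial.X j))
  let φ : MvPolynomial (Fin n) K →ₐ[K] L := MvPolynomial.aeval x
  have hφ : ∀ q : S, φ (MvPolynomial.map (algebraMap R K) q) = algebraMap D L (Ideal.Quotient.mk P q) := by
    intro q
    rw [MvPolynomial.aeval_map_algebraMap]
    change (MvPolynomial.aeval x) q = _
    have : (MvPolynomial.aeval x : S →ₐ[R] L) =
        (IsScalarTower.toAlgHom R D L).comp (Ideal.Quotient.mkₐ R P) :=
      MvPolynomial.algHom_ext fun j => by simp [x, D]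
    rw [this]; rfl
  -- every element in the range of `φ` is, up to a denominator, an element of `D`
  have hclear : ∀ q, ∃ c : R, c ≠ 0 ∧ c • φ q ∈ Set.range (algebraMap D L) := by
    intro q
    obtain ⟨⟨a, ⟨_, s, hs, rfl⟩⟩, ha⟩ :=
      @IsLocalization.surj _ _ ((nonZeroDivisors R).map (MvPolynomial.C (σ := Fin n))) _ _
        MvPolynomial.algebraMvPolynomial (MvPolynomial.isLocalization (nonZeroDivisors R) K) q
    refine ⟨s, nonZeroDivisors.ne_zero hs, Ideal.Quotient.mk P a, ?_⟩
    have := congrArg φ ha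
    rw [map_mul] at this
    simp only [MvPolynomial.algebraMap_def, MvPolynomial.map_C] at this
    rw [← hφ, ← this, mul_comm, Algebra.smul_def, IsScalarTower.algebraMap_apply R K L,
      ← φ.commutes, MvPolynomial.algebraMap_eq]
  let P' := RingHom.ker φ
  have : (RingHom.ker φ).IsPrime := RingHom.ker_isPrime _
  obtain ⟨f, hfP, hf0⟩ := Submodule.exists_mem_ne_zero_of_ne_bot hP
  let f' := MvPolynomial.map (algebraMap R K) f
  have hf' : f' ∈ P' := by
    rw [RingHom.mem_ker, hφ, Ideal.Quotient.eq_zero_iff_mem.2 hfP, map_zero]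
  have hf'0 : f' ≠ 0 := fun h =>
    hf0 (MvPolynomial.map_injective _ (IsFractionRing.injective R K) (h.trans (map_zero _).symm))
  have : Nontrivial (MvPolynomial (Fin n) K ⧸ P') := Ideal.Quotient.nontrivial_iff.2 (Ideal.IsPrime.ne_top')
  obtain ⟨s, g, hg, hgfin, hdim⟩ := DimTheory.exists_normalization K (MvPolynomial (Fin n) K ⧸ P')
  have hsn : s < n := by
    have h1 := ringKrullDim_quotient_succ_le_of_nonZeroDivisor (mem_nonZeroDivisors_of_ne_zero hf'0)
    have hle : Ideal.span {f'} ≤ P' := (Ideal.span_singleton_le_iff_mem _).2 hf'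
    have h2 : ringKrullDim (MvPolynomial (Fin n) K ⧸ P') ≤ ringKrullDim (MvPolynomial (Fin n) K ⧸ Ideal.span {f'}) :=
      ringKrullDim_le_of_surjective _ (Ideal.Quotient.factor_surjective hle)
    rw [DimTheory.ringKrullDim_mvPolynomial_fin] at h1
    rw [hdim] at h2
    have h3 : ((s + 1 : ℕ) : WithBot ℕ∞) ≤ n := by
      push_cast
      exact le_trans (add_le_add_left h2 1) h1
    exact_mod_cast h3
  let ι : (MvPolynomial (Fin n) K ⧸ P') →ₐ[K] L := Ideal.kerLiftAlg φ
  let y : Fin s → L := fun i => ι (g (MvPolynomial.X i))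
  have hy : ∀ i, ∃ c : R, c ≠ 0 ∧ c • y i ∈ Set.range (algebraMap D L) := fun i => by
    obtain ⟨q, hq⟩ := Ideal.Quotient.mk_surjective (g (MvPolynomial.X i))
    obtain ⟨c, hc, h⟩ := hclear q
    refine ⟨c, hc, ?_⟩
    change c • ι (g (MvPolynomial.X i)) ∈ _
    rw [← hq]
    exact h
  choose cy hcy hyD using hy
  let y' : Fin s → L := fun i => cy i • y i
  let ψ : MvPolynomial (Fin s) K →ₐ[K] L := MvPolynomial.aeval y'
  let σ : MvPolynomial (Fin s) K →ₐ[K] MvPolynomial (Fin s) K :=
    MvPolynomial.aeval fun i => MvPolynomial.C (algebraMap R K (cy i)) * MvPolynomial.X i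
  have hσ : Surjective σ := by
    intro q
    refine ⟨MvPolynomial.aeval (fun i => MvPolynomial.C (algebraMap R K (cy i))⁻¹ * MvPolynomial.X i) q, ?_⟩
    rw [← AlgHom.comp_apply, MvPolynomial.comp_aeval]
    conv_rhs => rw [← MvPolynomial.aeval_X_left_apply q]
    congr 2
    funext i
    have : algebraMap R K (cy i) ≠ 0 := (map_ne_zero_iff _ (IsFractionRing.injective R K)).2 (hcy i)
    simp only [σ, map_mul, MvPolynomial.aeval_C, MvPolynomial.aeval_X, MvPolynomial.algebraMap_eq]
    rw [← mul_assoc, ← map_mul, inv_mul_cancel₀ this, map_one, one_mul]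
  have hψ : ψ = (ι.comp g).comp σ := MvPolynomial.algHom_ext fun i => by
    simp only [ψ, σ, AlgHom.comp_apply, MvPolynomial.aeval_X, map_mul, y', y]
    rw [← MvPolynomial.algebraMap_eq, AlgHom.commutes, AlgHom.commutes, Algebra.smul_def,
      ← IsScalarTower.algebraMap_apply]
  have hint : ∀ j, ψ.toRingHom.IsIntegralElem (x j) := by
    intro j
    obtain ⟨q, hmon, hq⟩ := hgfin.to_isIntegral (Ideal.Quotient.mk P' (MvPolynomial.X j))
    obtain ⟨q', hq', -, hq'm⟩ := Polynomial.lifts_and_degree_eq_and_monic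
      ((Polynomial.mem_lifts q).2 (Polynomial.map_surjective σ.toRingHom hσ q)) hmon
    refine ⟨q', hq'm, ?_⟩
    have h : x j = ι.toRingHom (Ideal.Quotient.mk P' (MvPolynomial.X j)) :=
      ((Ideal.kerLiftAlg_mk φ _).trans (MvPolynomial.aeval_X x j)).symm
    rw [h, hψ, show ((ι.comp g).comp σ).toRingHom =
      (ι.toRingHom.comp g.toRingHom).comp σ.toRingHom from rfl, ← Polynomial.eval₂_map, hq',
      ← Polynomial.hom_eval₂, hq, map_zero]
  let ψR : MvPolynomial (Fin s) R →ₐ[R] L := MvPolynomial.aeval y'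
  algebraize [ψ.toRingHom, ψR.toRingHom]
  let : Algebra (MvPolynomial (Fin s) R) (MvPolynomial (Fin s) K) := MvPolynomial.algebraMvPolynomial
  have : IsScalarTower (MvPolynomial (Fin s) R) (MvPolynomial (Fin s) K) L :=
    IsScalarTower.of_algebraMap_eq fun q => (MvPolynomial.aeval_map_algebraMap K y' q).symm
  have hd : ∀ j, ∃ d : R, d ≠ 0 ∧ IsIntegral (MvPolynomial (Fin s) R) (d • x j) := by
    intro j
    obtain ⟨⟨_, d, hd, rfl⟩, h⟩ := IsIntegral.exists_multiple_integral_of_isLocalization
      ((nonZeroDivisors R).map (MvPolynomial.C (σ := Fin s))) (Rₘ := MvPolynomial (Fin s) K) (x j) (hint j)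
    refine ⟨d, nonZeroDivisors.ne_zero hd, ?_⟩
    have e : (d • x j : L) = (MvPolynomial.C d : MvPolynomial (Fin s) R) • x j := by
      rw [Algebra.smul_def, Algebra.smul_def]
      exact congrArg (· * x j) (MvPolynomial.aeval_C y' d).symm
    rw [e]
    exact h
  choose d hd hdint using hd
  let T : Subalgebra (MvPolynomial (Fin s) R) L :=
    Algebra.adjoin _ (Set.range fun j => d j • x j)
  have hT : Module.Finite (MvPolynomial (Fin s) R) T :=
    Module.Finite.iff_fg.2 (fg_adjoin_of_finite (Set.finite_range _) fun _ ⟨j, hj⟩ => hj ▸ hdint j)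
  obtain ⟨c₀, hc₀, hT'⟩ := ih s hsn T
  let D' : Submodule R L := LinearMap.range (IsScalarTower.toAlgHom R D L).toLinearMap
  have hTD : ∀ t ∈ T, t ∈ D' := by
    intro t ht
    have hDalg : ∀ z, z ∈ D' ↔ z ∈ (algebraMap D L).range := fun z => Iff.rfl
    rw [hDalg]
    induction ht using Algebra.adjoin_induction with
    | mem z hz =>
      obtain ⟨j, rfl⟩ := hz
      exact ⟨d j • Ideal.Quotient.mk P (MvPolynomial.X j), map_smul (IsScalarTower.toAlgHom R D L) _ _⟩
    | algebraMap r =>
      change ψR r ∈ _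
      induction r using MvPolynomial.induction_on with
      | C a => exact ⟨algebraMap R D a, by rw [← IsScalarTower.algebraMap_apply]; exact (ψR.commutes a).symm⟩
      | add a b ha hb => rw [map_add]; exact add_mem ha hb
      | mul_X a i ha => rw [map_mul, MvPolynomial.aeval_X]; exact mul_mem ha (hyD i)
    | add a b _ _ ha hb => exact add_mem ha hb
    | mul a b _ _ ha hb => exact mul_mem ha hb
  let d₀ := ∏ j, d j
  have hd₀ : d₀ ≠ 0 := Finset.prod_ne_zero_iff.2 fun j _ => hd j
  have hDT : ∀ q : S, ∃ k : ℕ, d₀ ^ k • algebraMap D L (Ideal.Quotient.mk P q) ∈ T := by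
    intro q
    induction q using MvPolynomial.induction_on with
    | C a =>
      refine ⟨0, ?_⟩
      rw [pow_zero, one_smul, ← MvPolynomial.algebraMap_eq, ← Ideal.Quotient.algebraMap_eq,
        ← IsScalarTower.algebraMap_apply, ← IsScalarTower.algebraMap_apply,
        IsScalarTower.algebraMap_apply R (MvPolynomial (Fin s) R) L]
      exact T.algebraMap_mem _
    | add a b ha hb =>
      obtain ⟨k, hk⟩ := ha
      obtain ⟨l, hl⟩ := hb
      refine ⟨k + l, ?_⟩
      rw [map_add, map_add, smul_add]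
      refine add_mem ?_ ?_
      · rw [pow_add, mul_comm, mul_smul]
        exact (T.toSubmodule.restrictScalars R).smul_mem _ hk
      · rw [pow_add, mul_smul]
        exact (T.toSubmodule.restrictScalars R).smul_mem _ hl
    | mul_X a j ha =>
      obtain ⟨k, hk⟩ := ha
      obtain ⟨e, he⟩ : d j ∣ d₀ := Finset.dvd_prod_of_mem _ (Finset.mem_univ j)
      refine ⟨k + 1, ?_⟩
      rw [map_mul, map_mul, pow_succ, ← smul_mul_smul_comm]
      refine T.mul_mem hk ?_
      rw [he, mul_comm, mul_smul]
      exact (T.toSubmodule.restrictScalars R).smul_mem _ (Algebra.subset_adjoin ⟨j, rfl⟩)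
  let T' : Submodule R L := T.toSubmodule.restrictScalars R
  have hle : T' ≤ D' := hTD
  let u : T' →ₗ[R] D' := Submodule.inclusion hle
  have hcoker : ∀ m : D' ⧸ LinearMap.range u, ∃ k : ℕ, d₀ ^ k • m = 0 := by
    intro m
    obtain ⟨⟨_, z, rfl⟩, rfl⟩ := Submodule.Quotient.mk_surjective _ m
    obtain ⟨q, rfl⟩ := Ideal.Quotient.mk_surjective z
    obtain ⟨k, hk⟩ := hDT q
    refine ⟨k, ?_⟩
    rw [← Submodule.Quotient.mk_smul, Submodule.Quotient.mk_eq_zero]
    exact ⟨⟨_, hk⟩, rfl⟩
  have hD' : GF R D' := by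
    refine GF.extension (u := u) (v := (LinearMap.range u).mkQ) ⟨c₀, hc₀, hT'⟩
      ⟨d₀, hd₀, tflat_of_torsion hcoker⟩ (Submodule.inclusion_injective hle)
      (LinearMap.exact_map_mkQ_range u) (Submodule.mkQ_surjective _)
  obtain ⟨c, hc, h⟩ := hD'
  exact ⟨c, hc, h.congr (LinearEquiv.ofInjective (IsScalarTower.toAlgHom R D L).toLinearMap
    (IsFractionRing.injective D L)).symm⟩


/-- Finite modules over polynomial rings over a Noetherian domain are flat away from a nonzero element. -/
theorem gf_mvPolynomial [IsNoetherianRing R] (n : ℕ) :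
    ∀ (M : Type u) [AddCommGroup M] [Module (MvPolynomial (Fin n) R) M] [Module R M]
      [IsScalarTower R (MvPolynomial (Fin n) R) M] [Module.Finite (MvPolynomial (Fin n) R) M],
      GF R M := by
  induction n using Nat.strong_induction_on with
  | _ n ih =>
  intro M _ _ _ _ hM
  rename_i iR iT
  revert iR iT
  induction hM using IsNoetherianRing.induction_on_isQuotientEquivQuotientPrime with
  | subsingleton N =>
    intro _ _
    exact ⟨1, one_ne_zero, tflat_of_torsion fun m => ⟨0, Subsingleton.elim _ _⟩⟩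
  | exact N₁ N₂ N₃ f g hf hg hfg h₁ h₃ =>
    intro _ _
    let : Module R N₁ := Module.compHom N₁ (algebraMap R (MvPolynomial (Fin n) R))
    let : Module R N₃ := Module.compHom N₃ (algebraMap R (MvPolynomial (Fin n) R))
    have : IsScalarTower R (MvPolynomial (Fin n) R) N₁ := IsScalarTower.of_algebraMap_smul fun _ _ => rfl
    have : IsScalarTower R (MvPolynomial (Fin n) R) N₃ := IsScalarTower.of_algebraMap_smul fun _ _ => rfl
    exact h₁.extension (u := f.restrictScalars R) (v := g.restrictScalars R) h₃ hf hfg hg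
  | quotient N p e =>
    intro _ _
    suffices H : GF R (MvPolynomial (Fin n) R ⧸ p.asIdeal) from
      let ⟨c, hc, h⟩ := H; ⟨c, hc, h.congr (e.restrictScalars R).symm⟩
    exact gf_quotient n ih p.asIdeal

set_option synthInstance.maxHeartbeats 100000 in
/-- Generic flatness: finite modules over finitely generated algebras over Noetherian domains. -/
theorem gf_of_finiteType [IsNoetherianRing R] (S : Type u) [CommRing S] [Algebra R S] [Algebra.FiniteType R S]
    (M : Type u) [AddCommGroup M] [Module S M] [Module R M] [IsScalarTower R S M] [Module.Finite S M] :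
    GF R M := by
  obtain ⟨n, f, hf⟩ := Algebra.FiniteType.iff_quotient_mvPolynomial''.1 ‹Algebra.FiniteType R S›
  algebraize [f.toRingHom]
  let : Module (MvPolynomial (Fin n) R) M := Module.compHom M f.toRingHom
  have : IsScalarTower (MvPolynomial (Fin n) R) S M := IsScalarTower.of_algebraMap_smul fun _ _ => rfl
  have : IsScalarTower R (MvPolynomial (Fin n) R) M :=
    IsScalarTower.of_algebraMap_smul fun r m => by
      change f (algebraMap R _ r) • m = r • m
      rw [f.commutes, algebraMap_smul]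
  have : Module.Finite (MvPolynomial (Fin n) R) (MvPolynomial (Fin n) R) := Module.Finite.self _
  have : Module.Finite (MvPolynomial (Fin n) R) S :=
    Module.Finite.of_surjective (Algebra.linearMap (MvPolynomial (Fin n) R) S) hf
  have : Module.Finite (MvPolynomial (Fin n) R) M := Module.Finite.trans S M
  exact gf_mvPolynomial n M

end

end Groth.Agent.GenFlat
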