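import Mathlib.RingTheory.Localization.BaseChange
import Mathlib.RingTheory.Localization.Free
import Mathlib.RingTheory.Flat.Basic
import Mathlib.RingTheory.Flat.Localization
import Mathlib.RingTheory.Flat.Stability
import Mathlib.RingTheory.FiniteType
import Mathlib.RingTheory.Noetherian.Basic
import Mathlib.RingTheory.Polynomial.Basic
import Mathlib.LinearAlgebra.Basis.VectorSpace
import Mathlib.LinearAlgebra.TensorProduct.RightExactness

/-!
Generic flatness: if `A` is a Noetherian domain, `B` an `A`-algebra of finite type and `M` a finite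
`B`-module, there is `a ≠ 0` such that `M` is flat away from `a` (`GFlat a M`).
-/

set_option autoImplicit false

universe u

open TensorProduct

namespace Groth.Agent.GenFlat

variable {A : Type u} [CommRing A]

/-- `M` is flat away from `a`, phrased by elements: for every injection `T → T'` into a flat module,
the kernel of `T ⊗ M → T' ⊗ M` is `a`-power torsion. -/
def GFlat (a : A) (M : Type u) [AddCommGroup M] [Module A M] : Prop :=
  ∀ (T T' : Type u) [AddCommGroup T] [Module A T] [AddCommGroup T'] [Module A T'] [Module.Flat A T']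
    (ι : T →ₗ[A] T'), Function.Injective ι → ∀ x : T ⊗[A] M, ι.rTensor M x = 0 → ∃ k : ℕ, a ^ k • x = 0

variable {a : A} {L M N : Type u} [AddCommGroup L] [AddCommGroup M] [AddCommGroup N]
  [Module A L] [Module A M] [Module A N]

theorem GFlat.of_dvd (h : GFlat a M) {b : A} (hab : a ∣ b) : GFlat b M := by
  intro T T' _ _ _ _ _ ι hι x hx
  obtain ⟨k, hk⟩ := h T T' ι hι x hx
  obtain ⟨c, rfl⟩ := hab
  exact ⟨k, by rw [mul_pow, mul_comm, mul_smul, hk, smul_zero]⟩

theorem GFlat.of_equiv (h : GFlat a M) (e : M ≃ₗ[A] N) : GFlat a N := by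
  intro T T' _ _ _ _ _ ι hι x hx
  obtain ⟨k, hk⟩ := h T T' ι hι (e.symm.toLinearMap.lTensor T x) (by
    rw [← LinearMap.comp_apply, LinearMap.rTensor_comp_lTensor, ← LinearMap.lTensor_comp_rTensor,
      LinearMap.comp_apply, hx, map_zero])
  refine ⟨k, (LinearEquiv.lTensor T e.symm).injective ?_⟩
  rw [map_smul, map_zero]
  exact hk

theorem GFlat.of_exact (i : L →ₗ[A] M) (p : M →ₗ[A] N) (hi : Function.Injective i)
    (hp : Function.Surjective p) (he : Function.Exact i p) (hL : GFlat a L) (hN : GFlat a N) :
    GFlat a M := by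
  intro T T' _ _ _ _ _ ι hι x hx
  obtain ⟨k, hk⟩ := hN T T' ι hι (p.lTensor T x) (by
    rw [← LinearMap.comp_apply, LinearMap.rTensor_comp_lTensor, ← LinearMap.lTensor_comp_rTensor,
      LinearMap.comp_apply, hx, map_zero])
  rw [← map_smul] at hk
  obtain ⟨y, hy⟩ := (lTensor_exact T he hp (a ^ k • x)).1 hk
  obtain ⟨l, hl⟩ := hL T T' ι hι y (Module.Flat.lTensor_preserves_injective_linearMap i hi (by
    rw [map_zero, ← LinearMap.comp_apply, LinearMap.lTensor_comp_rTensor,
      ← LinearMap.rTensor_comp_lTensor, LinearMap.comp_apply, hy, map_smul, hx, smul_zero]))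
  refine ⟨l + k, ?_⟩
  rw [pow_add, mul_smul, ← hy, ← map_smul, hl, map_zero]

theorem GFlat.of_subsingleton [Subsingleton M] : GFlat a M := by
  intro T T' _ _ _ _ _ ι _ x _
  exact ⟨0, Subsingleton.elim _ _⟩

/-- A monotone exhaustive union of modules that are flat away from `a` is flat away from `a`. -/
theorem GFlat.of_iUnion (F : ℕ → Submodule A M) (hmono : Monotone F) (htop : ∀ m, ∃ i, m ∈ F i)
    (h : ∀ i, GFlat a (F i)) : GFlat a M := by
  intro T T' _ _ _ _ _ ι hι x hx
  have hex : ∀ z : T ⊗[A] M, ∃ i, ∃ y : T ⊗[A] F i, (F i).subtype.lTensor T y = z := by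
    intro z
    induction z using TensorProduct.induction_on with
    | zero => exact ⟨0, 0, map_zero _⟩
    | tmul t m =>
      obtain ⟨i, hi⟩ := htop m
      exact ⟨i, t ⊗ₜ ⟨m, hi⟩, rfl⟩
    | add z w hz hw =>
      obtain ⟨i, y, rfl⟩ := hz
      obtain ⟨j, y', rfl⟩ := hw
      refine ⟨max i j, (Submodule.inclusion (hmono (le_max_left i j))).lTensor T y +
        (Submodule.inclusion (hmono (le_max_right i j))).lTensor T y', ?_⟩
      rw [map_add, ← LinearMap.comp_apply, ← LinearMap.lTensor_comp, ← LinearMap.comp_apply,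
        ← LinearMap.lTensor_comp, Submodule.subtype_comp_inclusion, Submodule.subtype_comp_inclusion]
  obtain ⟨i, y, rfl⟩ := hex x
  obtain ⟨k, hk⟩ := h i T T' ι hι y (Module.Flat.lTensor_preserves_injective_linearMap (F i).subtype
    (Submodule.injective_subtype _) (by
    rw [map_zero, ← LinearMap.comp_apply, LinearMap.lTensor_comp_rTensor,
      ← LinearMap.rTensor_comp_lTensor, LinearMap.comp_apply, hx]))
  exact ⟨k, by rw [← map_smul, hk, map_zero]⟩

/-- A module which becomes flat after inverting `a` is flat away from `a`. -/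
theorem GFlat.of_flat_localizedModule [Module.Flat A (LocalizedModule.Away a M)] : GFlat a M := by
  intro T T' _ _ _ _ _ ι hι x hx
  let S := Submonoid.powers a
  let fT := LocalizedModule.mkLinearMap S T
  let fT' := LocalizedModule.mkLinearMap S T'
  let fM := LocalizedModule.mkLinearMap S M
  let ιS : LocalizedModule S T →ₗ[A] LocalizedModule S T' := IsLocalizedModule.map S fT fT' ι
  have hιS : Function.Injective ιS := IsLocalizedModule.map_injective S fT fT' ι hι
  have h0 : TensorProduct.map fT fM x = 0 := by
    apply Module.Flat.rTensor_preserves_injective_linearMap (M := LocalizedModule.Away a M) ιS hιS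
    rw [map_zero]
    have hcomp : (ιS.rTensor (LocalizedModule.Away a M)).comp (TensorProduct.map fT fM) =
        (TensorProduct.map fT' fM).comp (ι.rTensor M) := by
      ext t m
      simp [ιS]
    refine (LinearMap.congr_fun hcomp x).trans ?_
    rw [LinearMap.comp_apply, hx, map_zero]
  obtain ⟨⟨s, hs⟩, hsx⟩ := (IsLocalizedModule.eq_zero_iff S (TensorProduct.map fT fM)).1 h0
  obtain ⟨k, rfl⟩ := hs
  exact ⟨k, hsx⟩

/-- A finite module over a Noetherian domain is flat away from some nonzero element. -/
theorem exists_gFlat_of_finite [IsDomain A] [IsNoetherianRing A] (M : Type u) [AddCommGroup M]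
    [Module A M] [Module.Finite A M] : ∃ a : A, a ≠ 0 ∧ GFlat a M := by
  let S := nonZeroDivisors A
  have : Module.FinitePresentation A M := Module.finitePresentation_of_finite A M
  letI : Field (FractionRing A) := inferInstance
  have : Module.Free (FractionRing A) (LocalizedModule S M) :=
    @Module.Free.of_divisionRing (FractionRing A) (LocalizedModule S M) _ _
      (inferInstanceAs (Module (Localization S) (LocalizedModule S M)))
  obtain ⟨r, hr, hfree, -⟩ := Module.FinitePresentation.exists_free_localizedModule_powers S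
    (LocalizedModule.mkLinearMap S M) (FractionRing A)
  refine ⟨r, nonZeroDivisors.ne_zero hr, ?_⟩
  have : Module.Flat A (Localization (Submonoid.powers r)) := IsLocalization.flat _ (Submonoid.powers r)
  have : Module.Flat A (LocalizedModule.Away r M) :=
    Module.Flat.trans A (Localization (Submonoid.powers r)) _
  exact GFlat.of_flat_localizedModule

set_option maxHeartbeats 1000000 in
theorem exists_gFlat_aux [IsDomain A] [IsNoetherianRing A] :
    ∀ (n : ℕ) (B : Type u) [CommRing B] [Algebra A B] (x : Fin n → B),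
      Algebra.adjoin A (Set.range x) = ⊤ →
      ∀ (M : Type u) [AddCommGroup M] [Module B M] [Module A M] [IsScalarTower A B M]
        [Module.Finite B M], ∃ a : A, a ≠ 0 ∧ GFlat a M := by
  intro n
  induction n with
  | zero =>
    intro B _ _ x hx M _ _ _ _ _
    have hsurj : Function.Surjective (algebraMap A B) := by
      intro b
      have hb : b ∈ Algebra.adjoin A (Set.range x) := hx ▸ Algebra.mem_top
      rw [Set.range_eq_empty x, Algebra.adjoin_empty, Algebra.mem_bot] at hb
      exact hb
    have : Module.Finite A B := Module.Finite.of_surjective (Algebra.linearMap A B) hsurj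
    have : Module.Finite A M := Module.Finite.trans B M
    exact exists_gFlat_of_finite M
  | succ n ih =>
    intro B _ _ x hx M _ _ _ _ _
    classical
    let t := x 0
    let B' : Subalgebra A B := Algebra.adjoin A (Set.range (x ∘ Fin.succ))
    let x' : Fin n → B' := fun i => ⟨x i.succ, Algebra.subset_adjoin ⟨i, rfl⟩⟩
    have hx' : Algebra.adjoin A (Set.range x') = ⊤ := by
      refine Subalgebra.map_injective (f := B'.val) Subtype.val_injective ?_
      rw [AlgHom.map_adjoin, ← Set.range_comp, Algebra.map_top, Subalgebra.range_val]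
      rfl
    have : Algebra.FiniteType A B' := (Subalgebra.fg_iff_finiteType _).1
      ⟨(Finset.univ.image (x ∘ Fin.succ)), by simp [B', Function.comp_def]⟩
    have : IsNoetherianRing B' := Algebra.FiniteType.isNoetherianRing A B'
    obtain ⟨G, hG⟩ := (Module.Finite.fg_top : (⊤ : Submodule B M).FG)
    let M₀ : Submodule B' M := Submodule.span B' (G : Set M)
    let μ : M →ₗ[B'] M := (LinearMap.lsmul B M t).restrictScalars B'
    obtain ⟨F, hF0, hFsucc⟩ : ∃ F : ℕ → Submodule B' M, F 0 = M₀ ∧
        ∀ i, F (i + 1) = F i ⊔ (F i).map μ :=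
      ⟨Nat.rec M₀ (fun _ Fi => Fi ⊔ Fi.map μ), rfl, fun _ => rfl⟩
    have hmono : Monotone F := monotone_nat_of_le_succ fun i => by rw [hFsucc]; exact le_sup_left
    have hpow : ∀ i, F (i + 1) = F i ⊔ M₀.map (μ ^ (i + 1)) := by
      intro i
      induction i with
      | zero => rw [hFsucc, pow_one, hF0]
      | succ i hi =>
        refine le_antisymm ?_ ?_
        · rw [hFsucc (i + 1)]
          refine sup_le le_sup_left ?_
          conv_lhs => rw [hi, Submodule.map_sup, ← Submodule.map_comp]
          refine sup_le (le_sup_of_le_left ?_) (le_sup_of_le_right (le_of_eq ?_))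
          · rw [hFsucc]; exact le_sup_right
          · rw [pow_succ' μ (i + 1), Module.End.mul_eq_comp]
        · rw [hFsucc (i + 1)]
          refine sup_le le_sup_left (le_sup_of_le_right ?_)
          rw [pow_succ' μ (i + 1), Module.End.mul_eq_comp, Submodule.map_comp]
          refine Submodule.map_mono ?_
          rw [hi]; exact le_sup_right
    let φ : ∀ i, M₀ →ₗ[B'] M ⧸ F i := fun i => (F i).mkQ.comp ((μ ^ (i + 1)).comp M₀.subtype)
    have hker : ∀ i v, v ∈ LinearMap.ker (φ i) ↔ (μ ^ (i + 1)) (v : M) ∈ F i := fun i v => by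
      exact LinearMap.mem_ker.trans (Submodule.Quotient.mk_eq_zero (F i))
    have hkmono : Monotone fun i => LinearMap.ker (φ i) := monotone_nat_of_le_succ fun i v hv => by
      rw [hker] at hv ⊢
      rw [pow_succ' μ (i + 1), Module.End.mul_apply, hFsucc]
      exact Submodule.mem_sup_right (Submodule.mem_map_of_mem hv)
    have : Module.Finite B' M₀ := Module.Finite.iff_fg.2 ⟨G, rfl⟩
    obtain ⟨N, hN⟩ := monotone_stabilizes_iff_noetherian.2 (inferInstance : IsNoetherian B' M₀)
      ⟨fun i => LinearMap.ker (φ i), hkmono⟩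
    obtain ⟨a₀, ha₀, hM₀⟩ := ih B' x' hx' M₀
    have hq : ∀ i, ∃ a : A, a ≠ 0 ∧ GFlat a (M₀ ⧸ LinearMap.ker (φ i)) := fun i => ih B' x' hx' _
    choose c hc hcf using hq
    refine ⟨a₀ * ∏ i ∈ Finset.range (N + 1), c i,
      mul_ne_zero ha₀ (Finset.prod_ne_zero_iff.2 fun i _ => hc i), ?_⟩
    set b := a₀ * ∏ i ∈ Finset.range (N + 1), c i with hb
    have hQ : ∀ i, GFlat b (M₀ ⧸ LinearMap.ker (φ i)) := by
      intro i
      have hdvd : ∀ j ≤ N, c j ∣ b := fun j hj =>
        dvd_mul_of_dvd_right (Finset.dvd_prod_of_mem c (Finset.mem_range.2 (by omega))) a₀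
      rcases le_or_gt i N with hi | hi
      · exact (hcf i).of_dvd (hdvd i hi)
      · exact ((hcf N).of_dvd (hdvd N le_rfl)).of_equiv
          ((Submodule.quotEquivOfEq _ _ (hN i hi.le)).restrictScalars A)
    have hF : ∀ i, GFlat b (F i) := by
      intro i
      induction i with
      | zero => rw [hF0]; exact hM₀.of_dvd (dvd_mul_right a₀ _)
      | succ i hi =>
        let p : F (i + 1) →ₗ[B'] LinearMap.range (φ i) :=
          LinearMap.codRestrict _ ((F i).mkQ.comp (F (i + 1)).subtype) (fun z => by
            have hz : (z : M) ∈ F i ⊔ M₀.map (μ ^ (i + 1)) := hpow i ▸ z.2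
            obtain ⟨z₁, hz₁, z₂, ⟨v, hv, rfl⟩, hz12⟩ := Submodule.mem_sup.1 hz
            refine ⟨⟨v, hv⟩, ?_⟩
            simp only [φ, LinearMap.comp_apply, Submodule.subtype_apply]
            rw [← hz12, map_add, show (F i).mkQ z₁ = 0 from (Submodule.Quotient.mk_eq_zero _).2 hz₁, zero_add])
        have hp : Function.Surjective p := by
          rintro ⟨_, v, rfl⟩
          exact ⟨⟨(μ ^ (i + 1)) (v : M), hpow i ▸ Submodule.mem_sup_right (Submodule.mem_map_of_mem v.2)⟩,
            Subtype.ext rfl⟩
        let j : F i →ₗ[B'] F (i + 1) := Submodule.inclusion (hmono (Nat.le_succ i))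
        refine GFlat.of_exact (j.restrictScalars A) (p.restrictScalars A)
          (Submodule.inclusion_injective (hmono (Nat.le_succ i))) hp ?_ hi
          ((hQ i).of_equiv ((LinearMap.quotKerEquivRange (φ i)).restrictScalars A))
        intro z
        constructor
        · intro hz
          have hz' : (F i).mkQ (z : M) = 0 := congrArg Subtype.val hz
          exact ⟨⟨z, (Submodule.Quotient.mk_eq_zero _).1 hz'⟩, rfl⟩
        · rintro ⟨w, rfl⟩
          exact Subtype.ext ((Submodule.Quotient.mk_eq_zero _).2 w.2)
    refine GFlat.of_iUnion (fun i => (F i).restrictScalars A) (fun i j h => hmono h) ?_ hF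
    have hμ : ∀ i z, z ∈ F i → μ z ∈ F (i + 1) := fun i z hz => by
      rw [hFsucc]; exact Submodule.mem_sup_right (Submodule.mem_map_of_mem hz)
    let U : Submodule B' M := ⨆ i, F i
    have hU : ∀ m, m ∈ U ↔ ∃ i, m ∈ F i := fun m =>
      Submodule.mem_iSup_of_directed F hmono.directed_le
    have hclosed : ∀ b' : B, ∀ m ∈ U, b' • m ∈ U := by
      intro b'
      have hb' : b' ∈ Algebra.adjoin A (Set.range x) := hx ▸ Algebra.mem_top
      induction hb' using Algebra.adjoin_induction with
      | mem y hy =>
        obtain ⟨i, rfl⟩ := hy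
        intro m hm
        rcases Fin.eq_zero_or_eq_succ i with rfl | ⟨j, rfl⟩
        · obtain ⟨k, hk⟩ := (hU m).1 hm
          exact (hU _).2 ⟨k + 1, hμ k m hk⟩
        · exact U.smul_mem (x' j) hm
      | algebraMap r => intro m hm; exact U.smul_mem (algebraMap A B' r) hm
      | add y z _ _ hy hz => intro m hm; rw [add_smul]; exact add_mem (hy m hm) (hz m hm)
      | mul y z _ _ hy hz => intro m hm; rw [mul_smul]; exact hy _ (hz m hm)
    intro m
    have hm : m ∈ Submodule.span B (G : Set M) := hG ▸ Submodule.mem_top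
    refine (hU m).1 ?_
    induction hm using Submodule.span_induction with
    | mem y hy => exact (hU y).2 ⟨0, hF0 ▸ Submodule.subset_span hy⟩
    | zero => exact zero_mem _
    | add y z _ _ hy hz => exact add_mem hy hz
    | smul r y _ hy => exact hclosed r y hy

/-- **Generic flatness**. -/
theorem exists_gFlat [IsDomain A] [IsNoetherianRing A] (B : Type u) [CommRing B] [Algebra A B]
    [Algebra.FiniteType A B] (M : Type u) [AddCommGroup M] [Module B M] [Module A M]
    [IsScalarTower A B M] [Module.Finite B M] : ∃ a : A, a ≠ 0 ∧ GFlat a M := by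
  classical
  obtain ⟨s, hs⟩ := (Algebra.FiniteType.out : (⊤ : Subalgebra A B).FG)
  exact exists_gFlat_aux s.card B (fun i => (s.equivFin.symm i : B))
    (by rw [show Set.range (fun i => (s.equivFin.symm i : B)) = s by ext; simp [Set.mem_range]; exact
      ⟨fun ⟨i, hi⟩ => hi ▸ (s.equivFin.symm i).2, fun h => ⟨s.equivFin ⟨_, h⟩, by simp⟩⟩, hs]) M

theorem GFlat.lTensor_injective_of_presentation {h : L →ₗ[A] M} (p : M →ₗ[A] N)
    (hh : Function.Injective h) (hp : Function.Surjective p) (he : Function.Exact h p) (hN : GFlat a N)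
    {K Q : Type u} [AddCommGroup K] [Module A K] [AddCommGroup Q] [Module A Q] [Module.Flat A Q]
    (π : Q →ₗ[A] K) (hπ : Function.Surjective π) (ha : ∀ k : K ⊗[A] L, a • k = 0 → k = 0) :
    Function.Injective (h.lTensor K) := by
  rw [injective_iff_map_eq_zero]
  intro z hz
  have hex : Function.Exact (LinearMap.ker π).subtype π := LinearMap.exact_subtype_ker_map π
  obtain ⟨y, rfl⟩ := LinearMap.rTensor_surjective L hπ z
  have h1 : π.rTensor M (h.lTensor Q y) = 0 := by
    rw [← LinearMap.comp_apply, LinearMap.rTensor_comp_lTensor, ← LinearMap.lTensor_comp_rTensor,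
      LinearMap.comp_apply, hz]
  obtain ⟨w, hw⟩ := (rTensor_exact (M := LinearMap.ker π) (N := Q) (P := K) M hex hπ (h.lTensor Q y)).1 h1
  obtain ⟨k, hk⟩ := hN (LinearMap.ker π) Q (LinearMap.ker π).subtype (Submodule.injective_subtype _) (p.lTensor _ w) (by
    rw [← LinearMap.comp_apply, LinearMap.rTensor_comp_lTensor, ← LinearMap.lTensor_comp_rTensor,
      LinearMap.comp_apply, hw, ← LinearMap.comp_apply, ← LinearMap.lTensor_comp, he.linearMap_comp_eq_zero,
      LinearMap.lTensor_zero, LinearMap.zero_apply])
  rw [← map_smul] at hk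
  obtain ⟨w', hw'⟩ := (lTensor_exact _ he hp (a ^ k • w)).1 hk
  have h2 : a ^ k • y = (LinearMap.ker π).subtype.rTensor L w' := by
    apply Module.Flat.lTensor_preserves_injective_linearMap h hh
    rw [map_smul, ← hw, ← map_smul, ← hw', ← LinearMap.comp_apply, LinearMap.rTensor_comp_lTensor,
      ← LinearMap.lTensor_comp_rTensor, LinearMap.comp_apply]
  have h3 : a ^ k • π.rTensor L y = 0 := by
    rw [← map_smul, h2, ← LinearMap.comp_apply, ← LinearMap.rTensor_comp, hex.linearMap_comp_eq_zero,
      LinearMap.rTensor_zero, LinearMap.zero_apply]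
  generalize π.rTensor L y = q at h3
  have key : ∀ m : ℕ, a ^ m • q = 0 → q = 0 := by
    intro m
    induction m with
    | zero => intro h0; simpa using h0
    | succ m ih => intro h0; exact ih (ha _ (by rwa [← mul_smul, ← pow_succ']))
  exact key k h3

/-- If `h` is injective on `M` with cokernel flat away from `a`, it stays injective after tensoring
with a module on which `a` acts injectively. -/
theorem GFlat.lTensor_injective {h : L →ₗ[A] M} (p : M →ₗ[A] N) (hh : Function.Injective h)
    (hp : Function.Surjective p) (he : Function.Exact h p) (hN : GFlat a N) (K : Type u)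
    [AddCommGroup K] [Module A K] (ha : ∀ k : K ⊗[A] L, a • k = 0 → k = 0) :
    Function.Injective (h.lTensor K) :=
  GFlat.lTensor_injective_of_presentation p hh hp he hN (Finsupp.linearCombination A (id : K → K))
    (fun k => ⟨Finsupp.single k 1, by simp⟩) ha

end Groth.Agent.GenFlat
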